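import Cfsg.Agent.Lib.Steinberg.Lift.E2Data
import Cfsg.Agent.Lib.Steinberg.Lift.Mid

/-!
Splitting over the field with two elements, types E6, E7, E8: commutators of lifts and the Hall-Witt identity.
-/

set_option autoImplicit false
set_option linter.unusedSectionVars false

namespace CfsgLib.Steinberg

open Cfsg.Lie CfsgLib.Chev
open scoped commutatorElement IsMulCommutative

/-- the Hall-Witt step for elements -/
theorem hw_step {E : Type*} [Group E] {C D B : E} (hCB : Commute C B) (hAE : Commute ⁅C, D⁆ ⁅D, B⁆)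
    (hEF : Commute ⁅D, B⁆ ⁅⁅C, D⁆, B⁆) : ⁅C, ⁅D, B⁆⁆ = ⁅⁅C, D⁆, B⁆ := by
  set A := ⁅C, D⁆
  set G := ⁅D, B⁆
  have h1 : C * G * C⁻¹ = G * ⁅A, B⁆ := by
    have hb : C * B * C⁻¹ = B := by rw [hCB.eq, mul_inv_cancel_right]
    calc C * G * C⁻¹ = ⁅C * D * C⁻¹, C * B * C⁻¹⁆ := by simp only [G, commutatorElement_def]; group
      _ = ⁅A * D, B⁆ := by rw [hb]; simp only [A, commutatorElement_def]; group
      _ = A * G * A⁻¹ * ⁅A, B⁆ := by simp only [G, commutatorElement_def]; group
      _ = G * ⁅A, B⁆ := by rw [hAE.eq, mul_inv_cancel_right]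
  calc ⁅C, G⁆ = C * G * C⁻¹ * G⁻¹ := commutatorElement_def _ _
    _ = G * ⁅A, B⁆ * G⁻¹ := by rw [h1]
    _ = ⁅A, B⁆ := by rw [hEF.eq, mul_inv_cancel_right]

variable {D : ChevalleyDatum} {T : Tabs} {K : Type*} [Field K] {Δ : Type*} [Group Δ] {E : Type*} [Group E]
  {tab : List (List (ℕ × ℕ))}

/-- two elements only -/
def TwoElem (K : Type*) [Field K] : Prop := ∀ t : K, t = 0 ∨ t = 1

theorem TwoElem.neg_one (h : TwoElem K) : (-1 : K) = 1 :=
  (h (-1)).resolve_left (neg_ne_zero.2 one_ne_zero)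

theorem TwoElem.unit (h : TwoElem K) (u : Kˣ) : u = 1 := Units.ext ((h u).resolve_left u.ne_zero)

theorem neg_iff_sum (hc : Checked D T) {r s : ℕ} (hr : r < D.nroots) (hs : s < D.nroots) :
    s = D.neg r ↔ r + s + 1 = D.nroots := by
  rw [neg_eq hc hr]; omega

theorem opp_eq (hc : Checked D T) {r : ℕ} (hr : r < D.nroots) : opp D r = D.neg r := by
  rw [neg_eq hc hr, opp]; omega

theorem single_ne_neg (hc : Checked D T) {r s v : ℕ} (h : Single D r s v) : s ≠ D.neg r := by
  obtain ⟨hr, -, -, C, -, e⟩ := h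
  exact (chainEntry_get hc hr (i := 0) (q := (v, C)) (c := s) (by rw [e]; simp)).2.2.2.2.2.2

theorem nil_commTerms (hd : ShortChains D) (hc : Checked D T) {r s : ℕ} (h : Nil D r s) :
    s = r ∨ (s ≠ D.neg r ∧ D.commTerms r s = []) := by
  obtain ⟨hr, hs, h | ⟨h1, h2⟩⟩ := h
  · exact Or.inl h
  · exact Or.inr ⟨fun e => h1 ((neg_iff_sum hc hr hs).1 e), (commTerms_nil_iff hd r s).2 h2⟩

namespace Ext

variable {y : ℕ → K → Δ} {φ : Δ →* GL D.Idx K} {π : E →* Δ} (X : Ext D T y φ π)
include X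

/-- `⁅r, s⁆ = v` in the base, at parameter one -/
def Dec (_X : Ext D T y φ π) (v r s : ℕ) : Prop :=
  v < D.nroots ∧ r < D.nroots ∧ s < D.nroots ∧ s ≠ r ∧ s ≠ D.neg r ∧ ⁅y r 1, y s 1⁆ = y v 1

/-- commutator of lifts -/
noncomputable def z (r s : ℕ) : E := ⁅X.sec (y r 1), X.sec (y s 1)⁆

variable (h2 : TwoElem K)
include h2

theorem y_neg {r : ℕ} : y r (-1) = y r 1 := by rw [h2.neg_one]

theorem inv_y {r : ℕ} (hr : r < D.nroots) : (y r (1 : K))⁻¹ = y r 1 := by rw [X.sys.y_inv hr, h2.neg_one]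

theorem commutator_single {r s v : ℕ} {C : ℤ} (hC : C ∈ [(1 : ℤ), -1]) (hr : r < D.nroots) (hs : s < D.nroots)
    (h1 : s ≠ r) (h1' : s ≠ D.neg r) (ht : D.commTerms r s = [(v, C, 1, 1)]) : X.Dec v r s := by
  have hv : v < D.nroots := (commTerms_weight X.sys.checked hr hs (v, C, 1, 1) (by rw [ht]; simp)).1
  have hC1 : (C : K) = 1 := by
    simp only [List.mem_cons, List.not_mem_nil, or_false] at hC
    rcases hC with rfl | rfl <;> simp [h2.neg_one]
  have key := X.sys.rel r s 1 1 hr hs h1 h1'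
  rw [ChevalleyDatum.commWord, ht] at key
  simp only [List.map_cons, List.map_nil, wordE, List.prod_cons, List.prod_nil, mul_one, pow_one, hC1, h2.neg_one,
    one_mul] at key
  refine ⟨hv, hr, hs, h1, h1', ?_⟩
  have e : ⁅y s 1, y r 1⁆ = y v (1 : K) := by
    rw [commutatorElement_def, X.inv_y h2 hr, X.inv_y h2 hs,
      show y s 1 * y r 1 * y s 1 * y r 1 = y s 1 * y r 1 * (y s 1 * y r 1) from by group]
    nth_rw 1 [← X.inv_y h2 hs, ← X.inv_y h2 hr]
    rw [key]; group
  rw [← commutatorElement_inv, e, X.inv_y h2 hv]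

theorem single_dec (hd : ShortChains D) {r s v : ℕ} (h : Single D r s v) : X.Dec v r s := by
  obtain ⟨C, hC, ht⟩ := h.commTerms hd
  exact X.commutator_single h2 hC h.1 h.2.1 h.2.2.1 (single_ne_neg X.sys.checked h) ht

theorem cc_of_decE (hd : ShortChains D) {x v : ℕ} (hx : x < D.nroots) (hv : v < D.nroots) {ab : ℕ × ℕ}
    (h : DecE D x v ab) : CC y π x v := by
  obtain ⟨h1, ha, hb⟩ := h
  obtain ⟨C, hC, ht⟩ := h1.commTerms hd
  exact X.cc_of_decomp hx hv h1.1 h1.2.1 h1.2.2.1 (single_ne_neg X.sys.checked h1) (cast_ne_zero_of_mem hC) ht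
    (nil_commTerms hd X.sys.checked ha) (nil_commTerms hd X.sys.checked hb)

theorem y_one_ne {v : ℕ} (hv : v < D.nroots) : y v (1 : K) ≠ 1 := fun e => by
  have := congrArg φ e
  rw [X.sys.proj v 1 hv, map_one, elX_eq_one_iff X.sys.checked hv] at this
  exact one_ne_zero this

theorem dec_not_commute {v r s : ℕ} (h : X.Dec v r s) : ¬Commute (y r (1 : K)) (y s 1) := fun e =>
  X.y_one_ne h2 h.1 (by rw [← h.2.2.2.2.2]; exact commutatorElement_eq_one_iff_mul_comm.2 e)

theorem dec_swap {v r s : ℕ} (h : X.Dec v r s) : X.Dec v s r := by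
  obtain ⟨hv, hr, hs, h1, h1', e⟩ := h
  refine ⟨hv, hs, hr, h1.symm, fun e' => h1' (by rw [e', neg_neg_root X.sys.checked hs]), ?_⟩
  rw [← commutatorElement_inv, e, X.inv_y h2 hv]

theorem commute_dec {v r s : ℕ} (h : X.Dec v r s) : Commute (y r (1 : K)) (y v 1) := by
  obtain ⟨hv, hr, hs, -, -, e⟩ := h
  have e' : (⁅y r (1 : K), y s 1⁆)⁻¹ = y v 1 := by rw [e, X.inv_y h2 hv]
  have ha := X.inv_y h2 hr
  have hb := X.inv_y h2 hs
  have haa : y r (1 : K) * y r 1 = 1 := by nth_rw 1 [← ha]; exact inv_mul_cancel _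
  have haa' : ∀ g, y r (1 : K) * (y r 1 * g) = g := fun g => by rw [← mul_assoc, haa, one_mul]
  rw [commute_iff_eq]
  conv_lhs => rw [← e]
  conv_rhs => rw [← e']
  simp only [commutatorElement_def, mul_inv_rev, inv_inv, ha, hb, mul_assoc, haa, haa', mul_one]

theorem rv_of_dec (hd : ShortChains D) {v r s : ℕ} (h : X.Dec v r s) : rv D T v = rv D T r + rv D T s := by
  obtain ⟨hv, hr, hs, h1, h1', e⟩ := h
  rcases commTerms_short hd r s with ht | ⟨w, C, hC, ht⟩
  · exact absurd (X.commute_of_nil hr hs (Or.inr ⟨h1', ht⟩) 1 1)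
      (X.dec_not_commute h2 ⟨hv, hr, hs, h1, h1', e⟩)
  · obtain ⟨hw, -, -, -, -, e'⟩ := X.commutator_single h2 hC hr hs h1 h1' ht
    obtain ⟨-, -, -, hwt⟩ := commTerms_weight X.sys.checked hr hs (w, C, 1, 1) (by rw [ht]; simp)
    have hwv : w = v := by
      have := congrArg φ (e'.symm.trans e)
      rw [X.sys.proj w 1 hw, X.sys.proj v 1 hv] at this
      exact elX_root_unique X.sys.checked hw hv one_ne_zero this
    subst hwv
    simpa using hwt

/-- commuting root elements have commuting lifts -/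
theorem cc_two (hd : TwoData D tab) {r s : ℕ} (hr : r < D.nroots) (hs : s < D.nroots)
    (hneg : s ≠ D.neg r) (hc : Commute (y r (1 : K)) (y s 1)) : CC y π r s := by
  have self : ∀ r, r < D.nroots → CC y π r r := fun r hr =>
    X.self_induction (P := fun r => CC y π r r) (fun i r hr h => X.cc_sig i hr hr h)
      (fun i => X.cc_of_decE h2 hd.1 (simple_lt X.sys.checked i.2) (simple_lt X.sys.checked i.2) (hd.2.1 i i.2)) hr
  by_cases e : s = r
  · subst e; exact self s hs
  revert hc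
  refine X.pair_induction (P := fun r s => Commute (y r (1 : K)) (y s 1) → CC y π r s) (fun i a b ha hb h hab => ?_)
    (fun i b hb e1 e2 hab => ?_) hr hs e hneg
  · refine X.cc_sig i ha hb (h ?_)
    obtain ⟨c, hcn, -⟩ := X.sys.conj_nE i 1
    have e := fun v (hv : v < D.nroots) => hcn v 1 hv
    simp only [mul_one, h2.unit (c a), h2.unit (c b), Units.val_one] at e
    have hA := e a ha
    have hB := e b hb
    rw [h2.unit (c a), Units.val_one] at hA
    rw [h2.unit (c b), Units.val_one] at hB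
    rw [← hA, ← hB] at hab
    have e' : ∀ g u v : Δ, g * u * g⁻¹ * (g * v * g⁻¹) = g * v * g⁻¹ * (g * u * g⁻¹) → u * v = v * u :=
      fun g u v h => mul_left_cancel (a := g) (mul_right_cancel (b := g⁻¹) (by
        calc g * (u * v) * g⁻¹ = g * u * g⁻¹ * (g * v * g⁻¹) := by group
          _ = g * v * g⁻¹ * (g * u * g⁻¹) := h
          _ = g * (v * u) * g⁻¹ := by group))
    exact e' _ _ _ hab
  · rcases hd.2.2 i i.2 b hb with e' | e' | ⟨hdec, -⟩
    · exact absurd e' e1
    · exact absurd ((neg_iff_sum X.sys.checked (simple_lt X.sys.checked i.2) hb).2 (by omega)) e2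
    · rcases commTerms_short hd.1 (D.simple i) b with ht | ⟨w, C, hC, ht⟩
      · exact X.cc_of_decE h2 hd.1 (simple_lt X.sys.checked i.2) hb (hdec ((commTerms_nil_iff hd.1 _ _).1 ht))
      · exact absurd hab (X.dec_not_commute h2
          (X.commutator_single h2 hC (simple_lt X.sys.checked i.2) hb e1 e2 ht))

theorem cc_nil (hd : TwoData D tab) {r s : ℕ} (h : Nil D r s) : CC y π r s := by
  have hr := h.1
  have hs := h.2.1
  replace h := nil_commTerms hd.1 X.sys.checked h
  refine X.cc_two h2 hd hr hs ?_ (X.commute_of_nil hr hs h 1 1)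
  rcases h with rfl | h
  · intro e
    have := congrArg (rv D T) e
    rw [rv_neg X.sys.checked hs] at this
    have h5 : (2 : ℤ) • rv D T s = 0 := by rw [two_smul]; exact add_eq_zero_iff_eq_neg.2 this
    rcases smul_eq_zero.1 h5 with g | g
    · omega
    · exact rv_ne_zero X.sys.checked hs g
  · exact h.1

theorem π_z {v r s : ℕ} (h : X.Dec v r s) : π (X.z r s) = y v 1 := by
  rw [z, map_commutatorElement, X.π_sec, X.π_sec, h.2.2.2.2.2]

theorem z_congr {r s : ℕ} {a b : E} (ha : π a = y r 1) (hb : π b = y s 1) : ⁅a, b⁆ = X.z r s :=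
  X.cmt_congr (by rw [X.π_sec, ha]) (by rw [X.π_sec, hb])

theorem z_sq (hd : TwoData D tab) {v r s : ℕ} (h : X.Dec v r s) :
    X.z r s * X.z r s = 1 := by
  have hrv := X.rv_of_dec h2 hd.1 h
  obtain ⟨hv, hr, hs, h1, h1', -⟩ := id h
  have hne : v ≠ D.neg r := fun e => by
    rw [e, rv_neg X.sys.checked hr] at hrv
    have h5 : (2 : ℤ) • rv D T r + (1 : ℤ) • rv D T s = 0 := by
      rw [one_smul, two_smul, add_assoc, ← hrv, add_neg_cancel]
    rcases eq_or_eq_neg_of_prop X.sys.checked hr s hs 2 1 one_ne_zero h5 with g | g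
    · exact h1 g
    · exact h1' g
  set A := X.sec (y r 1)
  set B := X.sec (y s 1)
  have hAz : Commute A (X.z r s) :=
    X.cc_two h2 hd hr hv hne (X.commute_dec h2 h) A _ 1 1 (X.π_sec _) (X.π_z h2 h)
  have hA2 : A * A ∈ Subgroup.center E := X.central (by
    rw [MonoidHom.mem_ker, map_mul, X.π_sec]; nth_rw 2 [← X.inv_y h2 hr]; exact mul_inv_cancel _)
  have e : ⁅A * A, B⁆ = 1 := commutatorElement_eq_one_iff_mul_comm.2 (Subgroup.mem_center_iff.1 hA2 B).symm
  rw [show X.z r s = ⁅A, B⁆ from rfl] at hAz ⊢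
  calc ⁅A, B⁆ * ⁅A, B⁆ = A * ⁅A, B⁆ * A⁻¹ * ⁅A, B⁆ := by rw [hAz.eq, mul_inv_cancel_right]
    _ = ⁅A * A, B⁆ := by simp only [commutatorElement_def]; group
    _ = 1 := e

theorem z_swap (hd : TwoData D tab) {v r s : ℕ} (h : X.Dec v r s) : X.z s r = X.z r s := by
  rw [← eq_inv_of_mul_eq_one_left (X.z_sq h2 hd h) |>.symm]
  exact (commutatorElement_inv _ _).symm

theorem z_hw (hd : TwoData D tab) {v a b c d e : ℕ} (h : HWOk D v a b c d e) :
    X.z c e = X.z a b := by
  obtain ⟨hcd, hdb, hce, hab, hcb, hae, hev⟩ := h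
  set C := X.sec (y c 1)
  set D' := X.sec (y d 1)
  set B := X.sec (y b 1)
  have ha : π ⁅C, D'⁆ = y a 1 := X.π_z h2 (X.single_dec h2 hd.1 hcd)
  have he : π ⁅D', B⁆ = y e 1 := X.π_z h2 (X.single_dec h2 hd.1 hdb)
  have hv : π ⁅⁅C, D'⁆, B⁆ = y v 1 := by
    rw [X.z_congr h2 ha (X.π_sec _)]; exact X.π_z h2 (X.single_dec h2 hd.1 hab)
  have key := hw_step (X.cc_nil h2 hd hcb C B 1 1 (X.π_sec _) (X.π_sec _))
    (X.cc_nil h2 hd hae _ _ 1 1 ha he) (X.cc_nil h2 hd hev _ _ 1 1 he hv)
  rwa [X.z_congr h2 (X.π_sec _) he, X.z_congr h2 ha (X.π_sec _)] at key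

/-- every decomposition of a fundamental root gives the same lift -/
theorem z_simple (hd : TwoData D tab) (i : Fin D.rank) {r s : ℕ}
    (h : X.Dec (D.simple i) r s) :
    X.z r s = X.z (twoEntry tab i (D.simple i)).1 (twoEntry tab i (D.simple i)).2 := by
  have hsingle := (hd.2.1 i i.2).1
  have ha := hsingle.1
  have hb := hsingle.2.1
  set p := D.simple i
  set a := (twoEntry tab i p).1
  set b := (twoEntry tab i p).2
  have hp : p < D.nroots := simple_lt X.sys.checked i.2
  have h0 : X.Dec p a b := X.single_dec h2 hd.1 hsingle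
  have e0 := X.rv_of_dec h2 hd.1 h0
  have e1 := X.rv_of_dec h2 hd.1 h
  obtain ⟨-, hr, hs, hrs, hrs', -⟩ := id h
  have notpm : ∀ r s, r < D.nroots → s < D.nroots → s ≠ r → s ≠ D.neg r → rv D T p = rv D T r + rv D T s →
      r ≠ p ∧ r ≠ D.neg p := by
    intro r s hr hs h1 h1' e
    constructor <;> rintro rfl
    · exact rv_ne_zero X.sys.checked hs (left_eq_add.1 e)
    · rw [rv_neg X.sys.checked hp] at e
      have h5 : (2 : ℤ) • rv D T p + (-1 : ℤ) • rv D T s = 0 := by
        rw [two_smul, neg_one_smul]; nth_rw 1 [e]; abel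
      rcases eq_or_eq_neg_of_prop X.sys.checked hp s hs 2 (-1) (by norm_num) h5 with g | g
      · exact h1' (by rw [g, neg_neg_root X.sys.checked hp])
      · exact h1 g
  obtain ⟨r1, r2⟩ := notpm r s hr hs hrs hrs' e1
  obtain ⟨s1, s2⟩ := notpm s r hs hr hrs.symm
    (fun e => hrs' (by rw [e, neg_neg_root X.sys.checked hs])) (e1.trans (add_comm _ _))
  have lin : ∀ t, t < D.nroots → D.cartan i t = ∑ k, rv D T t k * cm D i k := fun t ht => by
    rw [cartan_linear X.sys.checked i ht]; exact Finset.sum_congr rfl fun k _ => mul_comm _ _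
  have hsum : D.cartan i r + D.cartan i s = 2 := by
    rw [lin r hr, lin s hs, ← Finset.sum_add_distrib]
    have := lin p hp
    rw [show D.cartan i p = 2 from cm_self X.sys.checked i, e1] at this
    rw [this]
    exact Finset.sum_congr rfl fun k _ => by rw [Pi.add_apply, add_mul]
  have notneg : ∀ t, t < D.nroots → t ≠ D.neg p → ¬(t + p + 1 = D.nroots) := fun t ht h1 e =>
    h1 ((neg_iff_sum X.sys.checked hp ht).2 (by omega))
  rcases hd.2.2 i i.2 r hr with e | e | ⟨-, hr1, -, hstep⟩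
  · exact absurd e r1
  · exact absurd e (notneg r hr r2)
  rcases hd.2.2 i i.2 s hs with e | e | ⟨-, hs1, -, -⟩
  · exact absurd e s1
  · exact absurd e (notneg s hs s2)
  have hA : D.cartan i r = 1 := by omega
  have hn : D.neg r < D.nroots := neg_lt X.sys.checked hr
  have hAn : D.cartan i (D.neg r) = -1 := by
    rw [lin _ hn, rv_neg X.sys.checked hr, ← hA, lin r hr, ← Finset.sum_neg_distrib]
    exact Finset.sum_congr rfl fun k _ => by rw [Pi.neg_apply, neg_mul]
  have hhead : headTerm D p (D.neg r) = s := by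
    rcases hd.2.2 i i.2 _ hn with e | e | ⟨-, -, hne, -⟩
    · exact absurd e (fun e => r2 (by rw [← neg_neg_root X.sys.checked hr, e]))
    · exact absurd e (notneg _ hn (fun e => r1 (by
        rw [← neg_neg_root X.sys.checked hr, e, neg_neg_root X.sys.checked hp])))
    · rcases commTerms_short hd.1 p (D.neg r) with h0' | ⟨w, C', -, ht'⟩
      · exact absurd ((commTerms_nil_iff hd.1 _ _).1 h0') (hne hAn)
      · obtain ⟨hw, -, -, hwt⟩ := commTerms_weight X.sys.checked hp hn (w, C', 1, 1) (by rw [ht']; simp)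
        simp only [Nat.cast_one, one_smul, rv_neg X.sys.checked hr] at hwt
        rw [e1] at hwt
        rw [commTerms_eq_chainEntry hd.1] at ht'
        obtain ⟨q, hq, hqe⟩ : ∃ q, D.chainEntry p (D.neg r) = [q] ∧ q.1 = w := by
          rcases h : D.chainEntry p (D.neg r) with _ | ⟨q, l⟩ <;> rw [h] at ht' <;> simp at ht'
          exact ⟨q, by rw [ht'.2], ht'.1.1⟩
        rw [headTerm, hq]
        simp only [List.map_cons, List.map_nil, List.headD_cons, hqe]
        exact rv_inj X.sys.checked hw hs (by rw [hwt]; abel)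
  simp only [StepOk, show D.simple ↑i = p from rfl, opp_eq X.sys.checked hr, hhead] at hstep
  rcases hstep hA with e | e | hw | hw
  · subst e
    have : s = b := rv_inj X.sys.checked hs hb (add_left_cancel (e1.symm.trans e0))
    rw [this]
  · subst e
    have : s = a := rv_inj X.sys.checked hs ha (add_left_cancel (e1.symm.trans (e0.trans (add_comm _ _))))
    rw [this]
    exact X.z_swap h2 hd h0
  · exact X.z_hw h2 hd hw
  · rw [← X.z_swap h2 hd h]; exact (X.z_hw h2 hd hw)

theorem dec_sig (i : Fin D.rank) {v r s : ℕ} (h : X.Dec v r s) :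
    X.Dec (sig D T i v) (sig D T i r) (sig D T i s) ∧
      ∃ e : E, X.z (sig D T i r) (sig D T i s) = e * X.z r s * e⁻¹ ∧ π e = nE D y (D.simple i) 1 := by
  obtain ⟨hv, hr, hs, h1, h1', e⟩ := h
  have hc := X.sys.checked
  obtain ⟨c, hn, -⟩ := X.sys.conj_nE i 1
  rw [Units.val_one] at hn
  have hy : ∀ w, w < D.nroots → nE D y (D.simple i) 1 * y w 1 * (nE D y (D.simple i) 1)⁻¹ = y (sig D T i w) 1 :=
    fun w hw => by rw [hn w 1 hw, h2.unit (c w), Units.val_one, one_mul]
  refine ⟨⟨sig_lt hc i hv, sig_lt hc i hr, sig_lt hc i hs, fun g => h1 ?_, fun g => h1' ?_, ?_⟩, ?_⟩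
  · rw [← sig_sig hc i hs, g, sig_sig hc i hr]
  · rw [← sig_sig hc i hs, g, ← sig_neg hc i hr, sig_sig hc i (neg_lt hc hr)]
  · rw [← hy r hr, ← hy s hs, ← hy v hv, ← e]; simp only [commutatorElement_def]; group
  · obtain ⟨g, hg⟩ := X.surj (nE D y (D.simple i) 1)
    refine ⟨g, ?_, hg⟩
    rw [z, z, show g * ⁅X.sec (y r 1), X.sec (y s 1)⁆ * g⁻¹ = ⁅g * X.sec (y r 1) * g⁻¹, g * X.sec (y s 1) * g⁻¹⁆ by
      simp only [commutatorElement_def]; group]
    refine X.cmt_congr ?_ ?_ <;> rw [map_mul, map_mul, map_inv, X.π_sec, X.π_sec, hg]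
    · exact (hy r hr).symm
    · exact (hy s hs).symm

theorem z_unique (hd : TwoData D tab) {v r s r' s' : ℕ} (h : X.Dec v r s)
    (h' : X.Dec v r' s') : X.z r s = X.z r' s' := by
  have hc := X.sys.checked
  have hv := h.1
  revert r s r' s'
  refine X.self_induction (P := fun v => ∀ {r s r' s' : ℕ}, X.Dec v r s → X.Dec v r' s' → X.z r s = X.z r' s')
    (fun i v hv ih {r s r' s'} h h' => ?_) (fun i {r s r' s'} h h' => ?_) hv
  · obtain ⟨a, e, he, hπ⟩ := X.dec_sig h2 i h
    obtain ⟨b, e', he', hπ'⟩ := X.dec_sig h2 i h'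
    rw [sig_sig hc i hv] at a b
    obtain ⟨z, hz, rfl⟩ := X.exists_central (hπ'.trans hπ.symm)
    rw [ih a b, he'] at he
    have hzc := Subgroup.mem_center_iff.1 hz (X.z r' s')
    rw [show e * z * X.z r' s' * (e * z)⁻¹ = e * (z * X.z r' s') * z⁻¹ * e⁻¹ by group, ← hzc,
      show e * (X.z r' s' * z) * z⁻¹ * e⁻¹ = e * X.z r' s' * e⁻¹ by group] at he
    exact (mul_left_cancel (mul_right_cancel he)).symm
  · rw [X.z_simple h2 hd i h, X.z_simple h2 hd i h']

theorem exists_dec (hd : TwoData D tab) {v : ℕ} (hv : v < D.nroots) : ∃ r s, X.Dec v r s := by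
  refine X.self_induction (P := fun v => ∃ r s, X.Dec v r s) (fun i v _ ⟨r, s, h⟩ => ⟨_, _, (X.dec_sig h2 i h).1⟩)
    (fun i => ?_) hv
  exact ⟨_, _, X.single_dec h2 hd.1 (hd.2.1 i i.2).1⟩

/-- lifts with (R1), (R2) -/
theorem exists_lifts_two (hd : TwoData D tab) :
    ∃ Y, Sys D T Y (φ.comp π) ∧ ∀ r, r < D.nroots → RootLift D y π r (Y r) := by
  classical
  have hex : ∀ v, ∃ z : E, v < D.nroots → z * z = 1 ∧ π z = y v 1 ∧ ∀ r s, X.Dec v r s → X.z r s = z := by
    intro v
    by_cases hv : v < D.nroots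
    · obtain ⟨r, s, h⟩ := X.exists_dec h2 hd hv
      exact ⟨X.z r s, fun _ => ⟨X.z_sq h2 hd h, X.π_z h2 h, fun r' s' h' => X.z_unique h2 hd h' h⟩⟩
    · exact ⟨1, fun h => absurd h hv⟩
  choose Z hZ using hex
  let Y : ℕ → K → E := fun v t => if t = 0 then 1 else Z v
  have hY : ∀ v, v < D.nroots → RootLift D y π v (Y v) := fun v hv => by
    refine ⟨fun t => ?_, fun t t' => ?_⟩
    · rcases h2 t with rfl | rfl
      · simp [Y, X.sys.y_zero hv]
      · simp [Y, (hZ v hv).2.1]
    · rcases h2 t with rfl | rfl <;> rcases h2 t' with rfl | rfl <;>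
        simp [Y, (hZ v hv).1, show (1 : K) + 1 = 0 by nth_rw 2 [← h2.neg_one]; exact add_neg_cancel 1]
  refine ⟨Y, X.exists_sys hY (fun r s hr hs h1 h1' => ?_), hY⟩
  rcases commTerms_short hd.1 r s with ht | ⟨v, C, hC, ht⟩
  · exact Or.inl (X.cc_two h2 hd hr hs h1' (X.commute_of_nil hr hs (Or.inr ⟨h1', ht⟩) 1 1))
  refine Or.inr fun f hf _ hdef t u => ?_
  rcases h2 t with rfl | rfl
  · exact hf.zero_left u
  rcases h2 u with rfl | rfl
  · exact hf.zero_right 1
  have hdec := X.commutator_single h2 hC hr hs h1 h1' ht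
  have hC1 : (C : K) = 1 := by
    simp only [List.mem_cons, List.not_mem_nil, or_false] at hC
    rcases hC with rfl | rfl <;> simp [h2.neg_one]
  have hk := hdef 1 1
  rw [ChevalleyDatum.commWord, ht] at hk
  simp only [List.map_cons, List.map_nil, wordE, List.prod_cons, List.prod_nil, mul_one, pow_one, hC1, h2.neg_one,
    one_mul] at hk
  have hz : ⁅(Y s 1)⁻¹, (Y r 1)⁻¹⁆ = X.z s r :=
    X.z_congr h2 (by rw [map_inv, (hY s hs).proj, X.inv_y h2 hs]) (by rw [map_inv, (hY r hr).proj, X.inv_y h2 hr])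
  rw [X.z_swap h2 hd hdec, (hZ v hdec.1).2.2 r s hdec, show Z v = Y v 1 by simp [Y], commutatorElement_def,
    inv_inv, inv_inv, mul_assoc, hk] at hz
  simp only [mul_assoc, inv_mul_cancel_left] at hz
  exact Subtype.ext (mul_eq_left.1 hz)

end Ext

theorem cover_perfect_two {K : Type*} [Field K] (S : Setup D T) (h2 : TwoElem K) (hd : TwoData D tab) :
    commutator (D.SteinbergCover K) = ⊤ := by
  have C0 := coverSys K S
  refine C0.perf_of_mem (cover_top K) fun i t => ?_
  rcases h2 t with rfl | rfl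
  · rw [C0.y_zero (simple_lt S.checked i.2)]; exact one_mem _
  have hsingle := (hd.2.1 i i.2).1
  obtain ⟨C, hC, ht⟩ := hsingle.commTerms hd.1
  have ha := hsingle.1
  have hb := hsingle.2.1
  have hab := hsingle.2.2.1
  have hab' := single_ne_neg S.checked hsingle
  have key := C0.rel _ _ 1 1 ha hb hab hab'
  rw [ChevalleyDatum.commWord, ht] at key
  have hC1 : (C : K) = 1 := by
    simp only [List.mem_cons, List.not_mem_nil, or_false] at hC
    rcases hC with rfl | rfl <;> simp [h2.neg_one]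
  simp only [List.map_cons, List.map_nil, wordE, List.prod_cons, List.prod_nil, mul_one, pow_one, hC1, h2.neg_one,
    one_mul] at key
  set A := D.scGen K (twoEntry tab i (D.simple i)).1 1
  set B := D.scGen K (twoEntry tab i (D.simple i)).2 1
  have e : D.scGen K (D.simple i) 1 = ⁅B⁻¹, A⁻¹⁆ := by
    rw [commutatorElement_def, inv_inv, inv_inv, mul_assoc, key]; group
  rw [e, commutator_def]
  exact Subgroup.commutator_mem_commutator (Subgroup.mem_top _) (Subgroup.mem_top _)

theorem coverSplits_two {K : Type*} [Field K] (S : Setup D T) (h2 : TwoElem K)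
    (hd : TwoData D tab) {E : Type*} [Group E] (p : E →* D.SteinbergCover K)
    (hp : Function.Surjective p) (hc : p.ker ≤ Subgroup.center E) :
    ∃ s : D.SteinbergCover K →* E, p.comp s = MonoidHom.id _ := by
  obtain ⟨Y, e1, e2⟩ := (coverExt S (cover_perfect_two S h2 hd) hp hc).exists_lifts_two h2 hd
  exact splits_of_sys e1 e2

end CfsgLib.Steinberg
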