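import Cfsg.Agent.Lib.Steinberg.Short
import Cfsg.Agent.Lib.Steinberg.Lift.DecTab

/-!
Data on the simply laced types used over the field with two elements.
-/

set_option autoImplicit false
set_option linter.unusedSectionVars false

namespace CfsgLib.Steinberg

open Cfsg.Lie

/-- entry of a witness table, two element version -/
def twoEntry (tab : List (List (ℕ × ℕ))) (i s : ℕ) : ℕ × ℕ := (tab.getD i []).getD s (0, 0)

/-- the first root of a chain entry -/
def headTerm (D : ChevalleyDatum) (r s : ℕ) : ℕ := ((D.chainEntry r s).map Prod.fst).headD 0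

/-- the index of the opposite root -/
def opp (D : ChevalleyDatum) (r : ℕ) : ℕ := D.nroots - 1 - r

/-- a decomposition of `v` inside the centraliser of `x` -/
def DecE (D : ChevalleyDatum) (x v : ℕ) (ab : ℕ × ℕ) : Prop :=
  Single D ab.1 ab.2 v ∧ Nil D x ab.1 ∧ Nil D x ab.2

instance instDecidableDecE (D : ChevalleyDatum) (x v : ℕ) (ab : ℕ × ℕ) : Decidable (DecE D x v ab) :=
  inferInstanceAs (Decidable (_ ∧ _))

/-- a single Hall-Witt step between the decompositions `(a, b)` and `(c, e)` of `v` -/
def HWOk (D : ChevalleyDatum) (v a b c d e : ℕ) : Prop :=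
  Single D c d a ∧ Single D d b e ∧ Single D c e v ∧ Single D a b v ∧ Nil D c b ∧ Nil D a e ∧ Nil D e v

instance instDecidableHWOk (D : ChevalleyDatum) (v a b c d e : ℕ) : Decidable (HWOk D v a b c d e) :=
  inferInstanceAs (Decidable (_ ∧ _))

/-- the decompositions of the fundamental root `i` starting with `r` -/
def StepOk (D : ChevalleyDatum) (tab : List (List (ℕ × ℕ))) (i r : ℕ) : Prop :=
  let p := D.simple i
  let ab := twoEntry tab i p
  let s := headTerm D p (opp D r)
  r = ab.1 ∨ r = ab.2 ∨ HWOk D p ab.1 ab.2 r (headTerm D ab.1 (opp D r)) s ∨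
    HWOk D p ab.1 ab.2 s (headTerm D ab.1 (opp D s)) r

instance instDecidableStepOk (D : ChevalleyDatum) (tab : List (List (ℕ × ℕ))) (i r : ℕ) :
    Decidable (StepOk D tab i r) :=
  inferInstanceAs (Decidable (_ ∨ _))

/-- one root against a fundamental root -/
def TwoOk (D : ChevalleyDatum) (tab : List (List (ℕ × ℕ))) (i r : ℕ) : Prop :=
  let p := D.simple i
  r = p ∨ r + p + 1 = D.nroots ∨
    ((D.chainEntry p r = [] → DecE D p r (twoEntry tab i r)) ∧
      D.cartan i r ≤ 1 ∧ (D.cartan i r = -1 → D.chainEntry p r ≠ []) ∧ (D.cartan i r = 1 → StepOk D tab i r))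

instance instDecidableTwoOk (D : ChevalleyDatum) (tab : List (List (ℕ × ℕ))) (i r : ℕ) :
    Decidable (TwoOk D tab i r) :=
  inferInstanceAs (Decidable (_ ∨ _))

/-- the data over two elements -/
def TwoData (D : ChevalleyDatum) (tab : List (List (ℕ × ℕ))) : Prop :=
  ShortChains D ∧ (∀ i, i < D.rank → DecE D (D.simple i) (D.simple i) (twoEntry tab i (D.simple i))) ∧
    ∀ i, i < D.rank → ∀ r, r < D.nroots → TwoOk D tab i r

theorem twoStepE6 : ∀ i, i < chevE6.rank → ∀ r, r < chevE6.nroots → TwoOk chevE6 decTabE6 i r := by decide +kernel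
theorem twoStepE7 : ∀ i, i < chevE7.rank → ∀ r, r < chevE7.nroots → TwoOk chevE7 decTabE7 i r := by decide +kernel
theorem twoStepE8 : ∀ i, i < chevE8.rank → ∀ r, r < chevE8.nroots → TwoOk chevE8 decTabE8 i r := by decide +kernel

theorem twoDataE6 : TwoData chevE6 decTabE6 := ⟨shortE6, by decide +kernel, twoStepE6⟩
theorem twoDataE7 : TwoData chevE7 decTabE7 := ⟨shortE7, by decide +kernel, twoStepE7⟩
theorem twoDataE8 : TwoData chevE8 decTabE8 := ⟨shortE8, by decide +kernel, twoStepE8⟩

end CfsgLib.Steinberg
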