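import Cfsg.Agent.Lib.Steinberg.Lift.Mid

/-!
Central extensions whose kernel has no element of order the characteristic of the field.
-/

set_option autoImplicit false
set_option linter.unusedSectionVars false

namespace CfsgLib.Steinberg

open Cfsg.Lie CfsgLib.Chev
open scoped commutatorElement IsMulCommutative

/-- a fundamental root with a usable decomposition or a usable torus element -/
def LiftFund (D : ChevalleyDatum) (tab : List (List (ℕ × ℕ))) (i : ℕ) : Prop :=
  DecOk D (D.simple i) (D.simple i) (tabEntry tab i (D.simple i)) [1, -1] ∨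
    (∃ j ∈ List.range D.rank, D.cartan j (D.simple i) = -1) ∨
    (∃ j ∈ List.range D.rank, D.cartan j (D.simple i) = -3 ∧ D.cartan i (D.simple i) = 2) ∨
    (DecOk D (D.simple i) (D.simple i) (tabEntry tab i (D.simple i)) [2, -2] ∧ D.cartan i (D.simple i) = 2)

instance instDecidableLiftFund (D : ChevalleyDatum) (tab : List (List (ℕ × ℕ))) (i : ℕ) :
    Decidable (LiftFund D tab i) :=
  inferInstanceAs (Decidable (_ ∨ _))

/-- decompositions of the long fundamental root of type B2 -/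
def decTabB2 : List (List (ℕ × ℕ)) := [[], [(0, 0), (0, 0), (0, 0), (0, 0), (2, 6)]]

theorem liftFundG2 : ∀ i, i < chevG2.rank → LiftFund chevG2 [] i := by decide +kernel
theorem liftFundB2 : ∀ i, i < chevB2.rank → LiftFund chevB2 decTabB2 i := by decide +kernel

theorem liftFund_of_selfData {D : ChevalleyDatum} {tab : List (List (ℕ × ℕ))} (h : SelfData D tab) :
    ∀ i, i < D.rank → LiftFund D tab i := fun i hi => Or.inl (h i hi).1

variable {D : ChevalleyDatum} {T : Tabs} {K : Type*} [Field K] {Δ : Type*} [Group Δ] {E : Type*} [Group E]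
  {tab : List (List (ℕ × ℕ))}

/-- a decomposed root element is a commutator -/
theorem Sys.dec_eq {y : ℕ → K → Δ} {φ : Δ →* GL D.Idx K} (S : Sys D T y φ) {x v : ℕ} {ab : ℕ × ℕ} {Cs : List ℤ}
    (h : DecOk D x v ab Cs) (hCs : ∀ C ∈ Cs, (C : K) ≠ 0) :
    ∃ C : K, C ≠ 0 ∧ ∀ t, ⁅(y ab.2 1)⁻¹, (y ab.1 (-(t / C)))⁻¹⁆ = y v t := by
  obtain ⟨ha, hb, hab, hab', -, -, C, hC, hterm⟩ := h
  refine ⟨C, hCs C hC, fun t => ?_⟩
  have e := S.rel ab.1 ab.2 (-(t / (C : K))) 1 ha hb hab hab'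
  rw [ChevalleyDatum.commWord, hterm] at e
  simp only [List.map_cons, List.map_nil, wordE, List.prod_cons, List.prod_nil, mul_one, pow_one, neg_neg,
    mul_div_cancel₀ _ (hCs C hC)] at e
  rw [commutatorElement_def, inv_inv, inv_inv, mul_assoc, e]
  group

/-- the available fundamental data -/
theorem fund_cases {y : ℕ → K → Δ} {φ : Δ →* GL D.Idx K} (S : Sys D T y φ)
    (hu : D ∈ [chevB2, chevG2] → ∃ u : Kˣ, u ≠ 1) {i : Fin D.rank} (h : LiftFund D tab i.val)
    (hdec : D ∉ [chevB2, chevG2] → DecOk D (D.simple i) (D.simple i) (tabEntry tab i (D.simple i)) [1, -1]) :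
    Moves D y (D.simple i) ∨ ∃ Cs : List ℤ, (∀ C ∈ Cs, (C : K) ≠ 0) ∧
      DecOk D (D.simple i) (D.simple i) (tabEntry tab i (D.simple i)) Cs := by
  by_cases hD : D ∈ [chevB2, chevG2]
  swap
  · exact Or.inr ⟨_, fun _ => cast_ne_zero_of_mem, hdec hD⟩
  obtain ⟨u, hu⟩ := hu hD
  rcases h with h | ⟨j, hj, hA⟩ | ⟨j, hj, hA, hB⟩ | ⟨h, hB⟩
  · exact Or.inr ⟨_, fun _ => cast_ne_zero_of_mem, h⟩
  · refine Or.inl (S.moves_simple_of_pow i ⟨j, List.mem_range.1 hj⟩ u ?_)
    rw [show pairCoef D ⟨j, List.mem_range.1 hj⟩ (D.simple i) = -1 from hA, zpow_neg_one]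
    simpa using hu
  · by_cases h2 : u ^ 2 = 1
    · refine Or.inl (S.moves_simple_of_pow i ⟨j, List.mem_range.1 hj⟩ u ?_)
      rw [show pairCoef D ⟨j, List.mem_range.1 hj⟩ (D.simple i) = -((3 : ℕ) : ℤ) from hA, zpow_neg, zpow_natCast,
        pow_succ, h2, one_mul]
      simpa using hu
    · refine Or.inl (S.moves_simple_of_pow i i u ?_)
      rw [show pairCoef D i (D.simple i) = ((2 : ℕ) : ℤ) from hB, zpow_natCast]
      exact h2
  · by_cases h2 : (2 : K) = 0
    · refine Or.inl (S.moves_simple_of_pow i i u ?_)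
      rw [show pairCoef D i (D.simple i) = ((2 : ℕ) : ℤ) from hB, zpow_natCast]
      intro e
      have e' : ((u : K) - 1) * ((u : K) - 1) = 0 := by
        have := congrArg Units.val e
        rw [Units.val_pow_eq_pow_val, Units.val_one] at this
        linear_combination this - ((u : K) - 1) * h2
      exact hu (Units.ext (by simpa [sub_eq_zero] using e'))
    · refine Or.inr ⟨_, fun C hC => ?_, h⟩
      simp only [List.mem_cons, List.not_mem_nil, or_false] at hC
      rcases hC with rfl | rfl <;> simpa using h2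

theorem cover_perfect_fund (S : Setup D T)
    (h : ∀ i : Fin D.rank, Moves D (D.scGen K) (D.simple i) ∨ ∃ Cs : List ℤ, (∀ C ∈ Cs, (C : K) ≠ 0) ∧
      DecOk D (D.simple i) (D.simple i) (tabEntry tab i (D.simple i)) Cs) :
    commutator (D.SteinbergCover K) = ⊤ := by
  have C0 := coverSys K S
  refine C0.perf_of_mem (cover_top K) fun i t => ?_
  rcases h i with hm | ⟨Cs, hCs, hd⟩
  · exact C0.mem_commutator_of_moves (simple_lt S.checked i.2) hm t
  · obtain ⟨C, -, e⟩ := C0.dec_eq hd hCs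
    rw [← e t, commutator_def]
    exact Subgroup.commutator_mem_commutator (Subgroup.mem_top _) (Subgroup.mem_top _)

namespace Ext

variable {y : ℕ → K → Δ} {φ : Δ →* GL D.Idx K} {π : E →* Δ} (X : Ext D T y φ π)
include X

/-- no element of order `p` in the kernel -/
def PFree (_X : Ext D T y φ π) (p : ℕ) : Prop := (p : K) = 0 ∧ ∀ z : E, π z = 1 → z ^ p = 1 → z = 1

variable {p : ℕ} (hA : X.PFree p)
include hA

theorem cc_pfree {r s : ℕ} (hr : r < D.nroots) (h : ∀ t u, Commute (y r t) (y s u)) : CC y π r s := by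
  intro a b t u ha hb
  have hz : π ⁅a, b⁆ = 1 := by
    rw [map_commutatorElement, ha, hb]; exact commutatorElement_eq_one_iff_mul_comm.2 (h t u)
  have hzc := fun g => Subgroup.mem_center_iff.1 (X.central (MonoidHom.mem_ker.2 hz)) g
  have key : ∀ n : ℕ, a ^ n * b * (a ^ n)⁻¹ = ⁅a, b⁆ ^ n * b := by
    intro n
    induction n with
    | zero => simp
    | succ n ih =>
      rw [pow_succ', show a * a ^ n * b * (a * a ^ n)⁻¹ = a * (a ^ n * b * (a ^ n)⁻¹) * a⁻¹ by group, ih,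
        show a * (⁅a, b⁆ ^ n * b) * a⁻¹ = a * ⁅a, b⁆ ^ n * a⁻¹ * (a * b * a⁻¹ * b⁻¹) * b by group,
        ← commutatorElement_def, (Commute.pow_right (show Commute a ⁅a, b⁆ from hzc a) n).eq, mul_inv_cancel_right,
        pow_succ]
  have hy : ∀ n : ℕ, y r ((n : K) * t) = (y r t) ^ n := by
    intro n
    induction n with
    | zero => simp [X.sys.y_zero hr]
    | succ n ih => rw [Nat.cast_succ, add_mul, one_mul, X.sys.add _ _ _ hr, ih, pow_succ]
  have hap : a ^ p ∈ π.ker := by rw [MonoidHom.mem_ker, map_pow, ha, ← hy, hA.1, zero_mul, X.sys.y_zero hr]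
  have := key p
  rw [← Subgroup.mem_center_iff.1 (X.central hap) b, mul_inv_cancel_right] at this
  exact commutatorElement_eq_one_iff_mul_comm.1 (hA.2 _ hz (mul_eq_right.1 this.symm))

theorem rootLift_of_dec {v : ℕ} (hv : v < D.nroots) {ab : ℕ × ℕ} {Cs : List ℤ}
    (hCs : ∀ C ∈ Cs, (C : K) ≠ 0) (h : DecOk D v v ab Cs) : ∃ Z, RootLift D y π v Z := by
  obtain ⟨C, -, e⟩ := X.sys.dec_eq h hCs
  obtain ⟨ha, -, -, -, hva, -, -⟩ := h
  have hπ : ∀ t, π ⁅(X.sec (y ab.2 1))⁻¹, (X.sec (y ab.1 (-(t / C))))⁻¹⁆ = y v t := fun t => by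
    rw [map_commutatorElement, map_inv, map_inv, X.π_sec, X.π_sec, e]
  refine ⟨fun t => ⁅(X.sec (y ab.2 1))⁻¹, (X.sec (y ab.1 (-(t / C))))⁻¹⁆, ⟨hπ, fun t t' => ?_⟩⟩
  set B := (X.sec (y ab.2 1))⁻¹
  set A := X.sec (y ab.1 (-(t / C)))
  set A' := X.sec (y ab.1 (-(t' / C)))
  rw [X.cmt_congr (a := B) (a' := B) (b' := A⁻¹ * A'⁻¹) rfl (by
    rw [map_inv, map_mul, map_inv, map_inv, X.π_sec, X.π_sec, X.π_sec, ← mul_inv_rev, ← X.sys.add _ _ _ ha]
    congr 2; ring)]
  have h := X.cc_pfree hA hv (fun t u => X.commute_of_nil hv ha hva t u) _ A _ _ (hπ t') (X.π_sec _)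
  calc ⁅B, A⁻¹ * A'⁻¹⁆ = ⁅B, A⁻¹⁆ * (A⁻¹ * ⁅B, A'⁻¹⁆) * A := by simp only [commutatorElement_def]; group
    _ = ⁅B, A⁻¹⁆ * (⁅B, A'⁻¹⁆ * A⁻¹) * A := by rw [(h.inv_right).eq]
    _ = _ := by group

/-- lifts when the kernel has no `p`-torsion -/
theorem exists_lifts_pfree (h : ∀ i : Fin D.rank, Moves D y (D.simple i) ∨ ∃ Cs : List ℤ, (∀ C ∈ Cs, (C : K) ≠ 0) ∧
      DecOk D (D.simple i) (D.simple i) (tabEntry tab i (D.simple i)) Cs) :
    ∃ Y, Sys D T Y (φ.comp π) ∧ ∀ r, r < D.nroots → RootLift D y π r (Y r) := by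
  classical
  have hc := X.sys.checked
  have fund : ∀ i : Fin D.rank, ∃ Z, RootLift D y π (D.simple i) Z := fun i => by
    have hp := simple_lt hc i.2
    rcases h i with ⟨g, c, hg, hne⟩ | ⟨Cs, hCs, hd⟩
    · obtain ⟨Z, hZ, -⟩ := X.exists_rootLift hp
        (X.cc_pfree hA hp (fun t u => X.commute_of_nil hp hp (Or.inl rfl) t u)) hg hne
      exact ⟨Z, hZ⟩
    · exact X.rootLift_of_dec hA hp hCs hd
  have hall : ∀ r, r < D.nroots → ∃ Z, RootLift D y π r Z := fun r hr =>
    X.self_induction (P := fun r => ∃ Z, RootLift D y π r Z) (fun i r hr ⟨Z, hZ⟩ => by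
      obtain ⟨d, hd, -⟩ := X.sys.conj_nE i 1
      obtain ⟨e, he⟩ := X.surj (nE D y (D.simple i) ((1 : Kˣ) : K))
      refine ⟨fun t => e * Z ((((d r)⁻¹ : Kˣ) : K) * t) * e⁻¹, ⟨fun t => ?_, fun t t' => ?_⟩⟩
      · rw [map_mul, map_mul, map_inv, he, hZ.proj, hd r _ hr, ← mul_assoc, Units.mul_inv, one_mul]
      · rw [mul_add, hZ.add]; group) fund hr
  have hex : ∀ r, ∃ Z : K → E, r < D.nroots → RootLift D y π r Z := fun r => by
    by_cases hr : r < D.nroots
    · obtain ⟨Z, hZ⟩ := hall r hr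
      exact ⟨Z, fun _ => hZ⟩
    · exact ⟨fun _ => 1, fun h => absurd h hr⟩
  choose Y hY using hex
  refine ⟨Y, X.exists_sys hY fun r s hr hs h1 h2 => Or.inr fun f hf _ hdef t u => ?_, hY⟩
  have hker : π (f t u : E) = 1 := by
    have e := congrArg π (hdef t u)
    simp only [map_mul] at e
    rw [(hY s hs).proj, (hY r hr).proj,
      show π (wordE Y (D.commWord K r s t u)) = wordE y (D.commWord K r s t u) by
        rw [wordE, wordE, map_list_prod, List.map_map]
        exact congrArg List.prod (List.map_congr_left fun q hq =>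
          (hY q.1 (commWord_mem hc hr hs t u q hq).1).proj q.2),
      X.sys.rel r s t u hr hs h1 h2, left_eq_mul] at e
    exact e
  refine Subtype.ext (hA.2 _ hker ?_)
  have : f t u ^ p = 1 := by rw [← hf.nsmul_left, hA.1, zero_mul, hf.zero_left]
  simpa using congrArg Subtype.val this

end Ext

/-- central extensions with kernel free of `p`-torsion split -/
theorem cover_splits_pfree (S : Setup D T)
    (h : ∀ i : Fin D.rank, Moves D (D.scGen K) (D.simple i) ∨ ∃ Cs : List ℤ, (∀ C ∈ Cs, (C : K) ≠ 0) ∧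
      DecOk D (D.simple i) (D.simple i) (tabEntry tab i (D.simple i)) Cs)
    (π : E →* D.SteinbergCover K) (hs : Function.Surjective π) (hc : π.ker ≤ Subgroup.center E) {p : ℕ}
    (hp : (p : K) = 0) (htor : ∀ z : E, π z = 1 → z ^ p = 1 → z = 1) :
    ∃ s : D.SteinbergCover K →* E, π.comp s = MonoidHom.id _ := by
  obtain ⟨Y, h1, h2⟩ := (coverExt S (cover_perfect_fund S h) hs hc).exists_lifts_pfree ⟨hp, htor⟩ h
  exact splits_of_sys h1 h2

end CfsgLib.Steinberg
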