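import Cfsg.Agent.Lib.Steinberg.Lift.SmallData

/-!
Central extensions of the presented group of types B2 and D4 over fields with three or four elements split.
-/

set_option autoImplicit false
set_option linter.unusedSectionVars false

namespace CfsgLib.Steinberg

open Cfsg.Lie CfsgLib.Chev
open scoped commutatorElement IsMulCommutative

variable {T : Tabs} {K : Type*} [Field K] {Δ : Type*} [Group Δ] {E : Type*} [Group E]

theorem neg_one_ne_one_of_three (h30 : (3 : K) = 0) : (-1 : Kˣ) ≠ 1 := fun e => by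
  have h := congrArg Units.val e
  rw [Units.val_neg, Units.val_one] at h
  exact one_ne_zero (show (1 : K) = 0 by linear_combination h30 + h)

namespace Ext

section general

variable {D : ChevalleyDatum} {y : ℕ → K → Δ} {φ : Δ →* GL D.Idx K} {π : E →* Δ} (X : Ext D T y φ π)
include X

/-- a scaling by an odd power of minus one -/
theorem scaling_one {r s : ℕ} (hr : r < D.nroots) (hs : s < D.nroots) (h : kVal D r s = 1) {u : Kˣ} (hu : u ≠ 1) :
    ∃ g c, Diag D y g c ∧ c r ≠ 1 ∧ c s = 1 := by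
  obtain ⟨g, c, e1, e2, e3⟩ := X.exists_scaling hr hs u
  exact ⟨g, c, e1, by rw [e2, h, pow_one]; exact hu, e3⟩

theorem cc_of_one_sided {r s : ℕ} (hr : r < D.nroots) (hs : s < D.nroots)
    (hc : ∀ t u, Commute (y r t) (y s u)) (h : kVal D r s = 1 ∨ kVal D s r = 1) {u : Kˣ} (hu : u ≠ 1) :
    CC y π r s := by
  rcases h with h | h
  · obtain ⟨g, c, e1, e2, e3⟩ := X.scaling_one hr hs h hu
    exact X.cc_of_commute_scaling hr hs hc e1 e2 e3
  · obtain ⟨g, c, e1, e2, e3⟩ := X.scaling_one hs hr h hu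
    exact (X.cc_of_commute_scaling hs hr (fun t u => (hc u t).symm) e1 e2 e3).symm

end general

section B2

variable {y : ℕ → K → Δ} {φ : Δ →* GL chevB2.Idx K} {π : E →* Δ} (X : Ext chevB2 T y φ π)
include X

/-- the lift of a long root from two short ones -/
theorem exists_longLift (h3 : ThreeElem K) (h30 : (3 : K) = 0) {Ys : ℕ → K → E}
    (hYs : ∀ r ∈ shortB2, RootLift chevB2 y π r (Ys r) ∧ RootEquiv chevB2 y π r (Ys r))
    {e : ℕ × ℕ × ℕ × ℤ} (he : e ∈ longPairsB2) :
    ∃ Z : K → E, RootLift chevB2 y π e.1 Z ∧ RootEquiv chevB2 y π e.1 Z ∧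
      ∀ t u, Ys e.2.2.1 u * Ys e.2.1 t = Ys e.2.1 t * Ys e.2.2.1 u *
        (((chevB2.commWord K e.2.1 e.2.2.1 t u).map fun p => Z p.2).prod) := by
  obtain ⟨v, a, b, C0⟩ := e
  obtain ⟨hv, ha', hb', hab, hab', hva, hnav, hvb, hnbv, hka, hkb, -, ⟨C, hC, hterm⟩, -⟩ := longPairsOk _ he
  simp only at hv ha' hb' hab hab' hva hnav hvb hnbv hka hkb hterm ⊢
  obtain ⟨⟨pa, adda⟩, eqa⟩ := hYs a ha'
  obtain ⟨⟨pb, addb⟩, eqb⟩ := hYs b hb'
  have ha := (short_moves a ha').1
  have hb := (short_moves b hb').1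
  have hm := neg_one_ne_one_of_three h30
  have hC0 : (C : K) ≠ 0 := by
    have h2 : (2 : K) ≠ 0 := fun h => one_ne_zero (show (1 : K) = 0 by linear_combination h30 - h)
    simp only [List.mem_cons, List.not_mem_nil, or_false] at hC
    rcases hC with rfl | rfl <;> simpa using h2
  have cca := X.cc_of_one_sided ha hv (fun t u => X.commute_of_nil ha hv (Or.inr ⟨hva, hnav⟩) t u) hka hm
  have ccb := X.cc_of_one_sided hb hv (fun t u => X.commute_of_nil hb hv (Or.inr ⟨hvb, hnbv⟩) t u) hkb hm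
  set W : K → K → E := fun t u => (Ys a t * Ys b u)⁻¹ * (Ys b u * Ys a t) with hW
  have Wdef : ∀ t u, Ys b u * Ys a t = Ys a t * Ys b u * W t u := fun t u => (mul_inv_cancel_left _ _).symm
  have πW : ∀ t u, π (W t u) = y v ((C : K) * -t * u) := fun t u => by
    have h := X.sys.rel a b t u ha hb hab hab'
    rw [ChevalleyDatum.commWord, hterm] at h
    simp only [List.map_cons, List.map_nil, wordE, List.prod_cons, List.prod_nil, mul_one, pow_one] at h
    simp only [hW, map_mul, map_inv, pa, pb, h, inv_mul_cancel_left]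
  have la : ∀ t t' u, W (t + t') u = W t' u * W t u := fun t t' u => by
    have h := (cca _ _ t' _ (pa t') (πW t u)).eq
    apply mul_left_cancel (a := Ys a (t + t') * Ys b u)
    rw [← Wdef, adda]
    calc Ys b u * (Ys a t * Ys a t') = Ys a t * Ys b u * W t u * Ys a t' := by rw [← mul_assoc, Wdef]
      _ = Ys a t * (Ys b u * Ys a t') * W t u := by simp only [mul_assoc, ← h]
      _ = _ := by rw [Wdef]; simp only [mul_assoc]
  have rb : ∀ t u u', W t (u + u') = W t u * W t u' := fun t u u' => by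
    have h := (ccb _ _ u' _ (pb u') (πW t u)).eq
    apply mul_left_cancel (a := Ys a t * Ys b (u + u'))
    rw [← Wdef, addb]
    calc Ys b u * Ys b u' * Ys a t = Ys b u * (Ys a t * Ys b u' * W t u') := by rw [mul_assoc, Wdef]
      _ = Ys a t * Ys b u * W t u * Ys b u' * W t u' := by rw [← Wdef t u]; simp only [mul_assoc]
      _ = _ := by simp only [mul_assoc]; rw [← mul_assoc (W t u) (Ys b u'), ← h]; simp only [mul_assoc]
  have z0 : ∀ u, W 0 u = 1 := fun u => by
    have := la 0 0 u; rw [add_zero] at this; exact left_eq_mul.1 this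
  have z1 : ∀ t, W t 0 = 1 := fun t => by
    have := rb t 0 0; rw [add_zero] at this; exact left_eq_mul.1 this
  have key : ∀ t u, W t u = W (t * u) 1 := fun t u => by
    rcases h3 u with rfl | rfl | rfl
    · rw [mul_zero, z1, z0]
    · rw [mul_one]
    · rw [mul_neg_one, eq_inv_of_mul_eq_one_left (a := W t (-1)) (b := W t 1)
        (by rw [← rb, neg_add_cancel, z1]), eq_inv_of_mul_eq_one_left (a := W (-t) 1) (b := W t 1)
        (by rw [← la, add_neg_cancel, z0])]
  refine ⟨fun x => W (-(x / (C : K))) 1, ⟨fun x => ?_, fun x x' => ?_⟩, ?_, fun t u => ?_⟩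
  · show π (W _ 1) = _
    rw [πW]; congr 1; field_simp
  · show W _ 1 = W _ 1 * W _ 1
    rw [← la]; congr 1; ring
  · intro g c x hg
    set t := -(x / (C : K))
    show g * W t 1 * g⁻¹ = W (-((c v : K) * x / (C : K))) 1
    have e : g * W t 1 * g⁻¹ = W ((c a : K) * t) ((c b : K) * 1) := by
      simp only [hW, ← eqa g c t hg, ← eqb g c 1 hg]; group
    have hx : (C : K) * -t * 1 = x := by simp only [t, neg_neg, mul_one]; field_simp
    have h1 : π (g * W t 1 * g⁻¹) = y v ((c v : K) * x) := by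
      rw [map_mul, map_mul, map_inv, πW, hg v _ hv, hx]
    rw [e, πW] at h1
    have h2 := X.sys.y_inj hv h1
    rw [e, key, show (c a : K) * t * ((c b : K) * 1) = -((c v : K) * x / (C : K)) by
      rw [← h2]; field_simp]
  · rw [ChevalleyDatum.commWord, hterm]
    simp only [List.map_cons, List.map_nil, List.prod_cons, List.prod_nil, mul_one, pow_one]
    rw [Wdef, key t u]
    congr 2; field_simp

theorem cc_orth_base_B2 (h3 : ThreeElem K) (h30 : (3 : K) = 0) : ∀ p ∈ orthBasesB2,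
    p.1 < chevB2.nroots ∧ p.2 < chevB2.nroots ∧ CC y π p.1 p.2 := by
  obtain ⟨e1, e2, e3, e4, e5, e6, e7, e8⟩ := b2_orth_base
  have h4 : 4 < chevB2.nroots := by decide
  have h7 : 7 < chevB2.nroots := by decide
  have h : CC y π 4 7 := by
    refine X.cc_of_swap h3 h4 h7 (fun t u => X.commute_of_nil h4 h7 (Or.inr ⟨by rw [e6]; omega, e5⟩) t u) ?_ h30
    have := X.sys.swap_simple ⟨0, by decide⟩ (r := 4) h4 (by rw [e3]; decide)
    simpa only [e1] using this
  intro p hp
  simp only [orthBasesB2, List.mem_cons, List.not_mem_nil, or_false] at hp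
  rcases hp with rfl | rfl
  exacts [⟨h4, h7, h⟩, ⟨h7, h4, h.symm⟩]

/-- lifts over three elements -/
theorem exists_lifts_B2_three (h3 : ThreeElem K) (h30 : (3 : K) = 0) :
    ∃ Y, Sys chevB2 T Y (φ.comp π) ∧ ∀ r, r < chevB2.nroots → RootLift chevB2 y π r (Y r) := by
  classical
  have hm := neg_one_ne_one_of_three h30
  have hex : ∀ r, ∃ Z : K → E, r ∈ shortB2 → RootLift chevB2 y π r Z ∧ RootEquiv chevB2 y π r Z := fun r => by
    by_cases hr : r ∈ shortB2
    · obtain ⟨hrn, hA⟩ := short_moves r hr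
      obtain ⟨c, h1, h2⟩ := X.diag_hE ⟨1, by decide⟩ (-1 : Kˣ)
      obtain ⟨Z, hZ⟩ := X.exists_rootLift hrn (X.cc_self_three h3 hrn) h1 (c := c) (by
        rw [h2 r hrn]
        rcases hA with e | e <;> rw [show pairCoef chevB2 ⟨1, _⟩ r = _ from e] <;> simpa using hm)
      exact ⟨Z, fun _ => hZ⟩
    · exact ⟨fun _ => 1, fun h => absurd h hr⟩
  choose Ys hYs using hex
  have hlong : ∀ r, ∃ Z : K → E, ∀ e ∈ longPairsB2, e.1 = r → RootLift chevB2 y π r Z ∧
      RootEquiv chevB2 y π r Z ∧ ∀ t u, Ys e.2.2.1 u * Ys e.2.1 t = Ys e.2.1 t * Ys e.2.2.1 u *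
        (((chevB2.commWord K e.2.1 e.2.2.1 t u).map fun p => Z p.2).prod) := fun r => by
    by_cases h : ∃ e ∈ longPairsB2, e.1 = r
    · obtain ⟨e, he, rfl⟩ := h
      obtain ⟨Z, hZ⟩ := X.exists_longLift h3 h30 hYs he
      exact ⟨Z, fun e' he' h' => longPairs_unique e' he' e he h' ▸ hZ⟩
    · exact ⟨fun _ => 1, fun e he h' => absurd ⟨e, he, h'⟩ h⟩
  choose Zl hZl using hlong
  let Y : ℕ → K → E := fun r => if r ∈ shortB2 then Ys r else Zl r
  have hY : ∀ r, r < chevB2.nroots → RootLift chevB2 y π r (Y r) ∧ RootEquiv chevB2 y π r (Y r) := fun r hr => by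
    rcases b2_root_kind r hr with h | h
    · simp only [Y, if_pos h]; exact hYs r h
    · obtain ⟨e, he, rfl⟩ := List.mem_map.1 h
      simp only [Y, if_neg (longPairsOk e he).2.2.2.2.2.2.2.2.2.2.2.1]
      exact ⟨(hZl _ e he rfl).1, (hZl _ e he rfl).2.1⟩
  refine ⟨Y, X.exists_sys (fun r hr => (hY r hr).1) (fun r s hr hs h1 h2 => ?_), fun r hr => (hY r hr).1⟩
  rcases b2Three r hr s hs h1 h2 with hk | hk | hk | ⟨e, he, hek⟩
  · refine Or.inr fun f hf hinv _ t u => ?_
    obtain ⟨g, c, e1, e2, e3⟩ := X.scaling_one hr hs hk hm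
    have := hinv (fun v hv => (hY v hv).2) g c e1
    rw [e3] at this
    exact hf.eq_one_of_stab e2 this t u
  · refine Or.inr fun f hf hinv _ t u => ?_
    obtain ⟨g, c, e1, e2, e3⟩ := X.scaling_one hs hr hk hm
    have := hinv (fun v hv => (hY v hv).2) g c e1
    rw [e3] at this
    exact hf.flip.eq_one_of_stab e2 (fun a b => by simpa using this b a) u t
  · exact Or.inl (X.cc_of_reached (X.cc_orth_base_B2 h3 h30) hk)
  · obtain ⟨hv, ha', hb', -, -, -, -, -, -, -, -, hvs, ⟨C, -, hterm⟩, C', -, hterm'⟩ := longPairsOk e he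
    obtain ⟨hZ, -, hrel⟩ := hZl e.1 e he rfl
    have Ya : Y e.2.1 = Ys e.2.1 := if_pos ha'
    have Yb : Y e.2.2.1 = Ys e.2.2.1 := if_pos hb'
    have Yv : Y e.1 = Zl e.1 := if_neg hvs
    have hfwd : ∀ t u, Y e.2.2.1 u * Y e.2.1 t = Y e.2.1 t * Y e.2.2.1 u * Y e.1 ((C : K) * -t * u) := fun t u => by
      rw [Ya, Yb, Yv, hrel, ChevalleyDatum.commWord, hterm]
      simp only [List.map_cons, List.map_nil, List.prod_cons, List.prod_nil, mul_one, pow_one]
    refine Or.inr fun f _ _ hdef t u => Subtype.ext ?_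
    rcases hek with ⟨rfl, rfl⟩ | ⟨rfl, rfl⟩
    · have h := hdef t u
      rw [ChevalleyDatum.commWord, hterm] at h
      simp only [List.map_cons, List.map_nil, wordE, List.prod_cons, List.prod_nil, mul_one, pow_one] at h
      rw [← hfwd, left_eq_mul] at h
      exact h
    · have h := hdef t u
      rw [ChevalleyDatum.commWord, hterm'] at h
      simp only [List.map_cons, List.map_nil, wordE, List.prod_cons, List.prod_nil, mul_one, pow_one] at h
      have hz : (C : K) * -u * t + (C' : K) * -t * u = 0 := by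
        refine X.sys.y_inj hv ?_
        have hrev := X.sys.rel e.2.2.1 e.2.1 t u hr hs h1 h2
        rw [ChevalleyDatum.commWord, hterm'] at hrev
        simp only [List.map_cons, List.map_nil, wordE, List.prod_cons, List.prod_nil, mul_one, pow_one] at hrev
        have hfw := congrArg π (hfwd u t)
        rw [map_mul, map_mul, map_mul, (hY e.1 hv).1.proj, (hY _ hr).1.proj, (hY _ hs).1.proj] at hfw
        rw [hfw, mul_assoc (y e.2.1 u * y e.2.2.1 t), left_eq_mul] at hrev
        rw [X.sys.add _ _ _ hv, hrev, X.sys.y_zero hv]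
      rw [hfwd u t, mul_assoc, mul_assoc (Y e.2.1 u * Y e.2.2.1 t), left_eq_mul, ← mul_assoc] at h
      have h' := h
      rw [← (hY e.1 hv).1.add, hz] at h'
      have h0 : Y e.1 0 = 1 := by
        have := (hY e.1 hv).1.add 0 0; rw [add_zero] at this; exact left_eq_mul.1 this
      rwa [h0, one_mul] at h'

theorem cc_short_four (h20 : (2 : K) = 0) (hu : ∃ u : Kˣ, u ^ 2 ≠ 1) : CC y π (chevB2.simple 0) (chevB2.simple 0) := by
  obtain ⟨hterm, h51, hs0, hn, hn7, hn5, h57, h53, k57, k53, k51⟩ := b2_short_dec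
  obtain ⟨u, hu⟩ := hu
  have hu1 : u ≠ 1 := fun e => hu (by rw [e, one_pow])
  rw [hs0]
  have h5 : 5 < chevB2.nroots := by omega
  have h7 : 7 < chevB2.nroots := by omega
  have h1 : 1 < chevB2.nroots := by omega
  have h3 : 3 < chevB2.nroots := by omega
  have c57 := X.cc_of_one_sided h5 h7 (fun t u => X.commute_of_nil h5 h7 (Or.inr ⟨by omega, h57⟩) t u) (Or.inl k57) hu1
  have c53 := X.cc_of_one_sided h5 h3 (fun t u => X.commute_of_nil h5 h3 (Or.inr ⟨by omega, h53⟩) t u) (Or.inl k53) hu1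
  have b51 : ∀ t u, Commute (y 5 t) (y 1 u) := fun t u => by
    have := X.sys.rel 5 1 t u h5 h1 (by omega) (by omega)
    rw [ChevalleyDatum.commWord, h51] at this
    simp only [List.map_cons, List.map_nil, wordE, List.prod_cons, List.prod_nil, mul_one, pow_one, Int.cast_ofNat,
      h20, zero_mul, X.sys.y_zero h3] at this
    exact this.symm
  have c51 : CC y π 5 1 := by
    obtain ⟨g, c, e1, e2, e3⟩ := X.exists_scaling h5 h1 u
    exact X.cc_of_commute_scaling h5 h1 b51 e1 (by rw [e2, k51]; exact hu) e3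
  intro p q t x hp hq
  set A := X.sec (y 7 (-x))
  set B := X.sec (y 1 1)
  set W := X.sec (y 3 x)
  have e : π ((A * B)⁻¹ * (B * A) * W⁻¹) = y 5 x := by
    have h := X.sys.rel 7 1 (-x) 1 h7 h1 (by omega) (by omega)
    rw [ChevalleyDatum.commWord, hterm] at h
    simp only [List.map_cons, List.map_nil, wordE, List.prod_cons, List.prod_nil, mul_one, pow_one, one_pow,
      Int.cast_one, one_mul, neg_neg] at h
    simp only [map_mul, map_inv, A, B, W, X.π_sec, h]
    group
  obtain ⟨z, hz, rfl⟩ := X.exists_central (hq.trans e.symm)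
  have cA := c57 p A t _ hp (X.π_sec _)
  have cB := c51 p B t _ hp (X.π_sec _)
  have cW := c53 p W t _ hp (X.π_sec _)
  exact ((((cA.mul_right cB).inv_right).mul_right (cB.mul_right cA)).mul_right cW.inv_right).mul_right
    (Subgroup.mem_center_iff.1 hz p)

theorem exists_lifts_B2_four (h20 : (2 : K) = 0) (hK : ∃ s : Finset K, 3 < s.card) :
    ∃ Y, Sys chevB2 T Y (φ.comp π) ∧ ∀ r, r < chevB2.nroots → RootLift chevB2 y π r (Y r) := by
  have h2 : ∀ k, 0 < k → k ≤ 2 → ∃ u : Kˣ, u ^ k ≠ 1 := fun k h0 h2 =>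
    exists_pow_ne_one h0 (hK.imp fun s hs => by omega)
  refine X.exists_lifts (moves_simple_big X.sys hK) (fun i => ?_) (fun i s hs h1 h1' => ?_)
  · have hp := simple_lt X.sys.checked i.2
    by_cases hi : i.val = 0
    · rw [hi]; exact X.cc_short_four h20 (h2 2 two_pos le_rfl)
    rcases bigDataB2.2 i i.2 with h | ⟨⟨a, b⟩, -, ha, hb, hab, hab', hxa, hxb, e, -, C, hC, hterm, he, hne, hnil, k0, k2⟩
    · exfalso
      have : ∀ i, i < chevB2.rank → i ≠ 0 → gVal chevB2 (chevB2.simple i) ≠ 1 := by decide +kernel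
      exact this i i.2 hi h
    · obtain ⟨w, C', i', j'⟩ := e
      exact X.cc_of_decomp2 hp he hp ha hb hab hab' (cast_ne_zero_of_mem hC) hterm
        (X.cc_of_kVal hp he ⟨hne, hnil⟩ (h2 _ k0 k2)) hxa hxb
  · obtain ⟨k0, k2⟩ := b2_scalings i i.2 s hs h1 h1'
    obtain ⟨u, hu⟩ := h2 _ k0 k2
    exact Or.inr (X.scaling_of_kVal (simple_lt X.sys.checked i.2) hs hu)

end B2

section D4

variable {y : ℕ → K → Δ} {φ : Δ →* GL chevD4.Idx K} {π : E →* Δ} (X : Ext chevD4 T y φ π)
include X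

theorem exists_lifts_D4 (hK : ∃ s : Finset K, 2 < s.card)
    (h : (∃ u : Kˣ, u ^ 2 ≠ 1) ∨ (ThreeElem K ∧ (3 : K) = 0)) :
    ∃ Y, Sys chevD4 T Y (φ.comp π) ∧ ∀ r, r < chevD4.nroots → RootLift chevD4 y π r (Y r) := by
  refine X.exists_lifts (moves_simple_mid X.sys selfDataD4 hK) (X.cc_self_mid selfDataD4) fun i s hs h1 h1' => ?_
  have hp := simple_lt X.sys.checked i.2
  obtain ⟨u, hu⟩ := exists_unit_ne_one hK
  rcases d4Pair i i.2 s hs h1 h1' with hk | ⟨hk, hr⟩
  · exact Or.inr (X.scaling_one hp hs hk hu)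
  rcases h with ⟨u, hu⟩ | ⟨h3, h30⟩
  · exact Or.inr (X.scaling_of_kVal hp hs (u := u) (by rw [hk]; exact hu))
  refine Or.inl (X.cc_of_reached (fun p hp => ?_) hr)
  obtain ⟨⟨a, b⟩, -, ha, hb, hr1, hs1, hn, hnil, hcomm, e1, e2, hev⟩ := d4_bases p hp
  exact ⟨hr1, hs1, X.cc_of_swap h3 hr1 hs1 (fun t u => X.commute_of_nil hr1 hs1 (Or.inr ⟨hn, hnil⟩) t u)
    (X.sys.swap_two ⟨a, ha⟩ ⟨b, hb⟩ hcomm hr1 e1 e2 (even_iff_two_dvd.2 hev)) h30⟩

end D4

end Ext

theorem coverSplits_D4 (S : Setup chevD4 T) (hK : ∃ s : Finset K, 2 < s.card)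
    (h : (∃ u : Kˣ, u ^ 2 ≠ 1) ∨ (ThreeElem K ∧ (3 : K) = 0)) (p : E →* chevD4.SteinbergCover K)
    (hp : Function.Surjective p) (hc : p.ker ≤ Subgroup.center E) :
    ∃ s : chevD4.SteinbergCover K →* E, p.comp s = MonoidHom.id _ := by
  obtain ⟨Y, e1, e2⟩ := (coverExt S (cover_perfect_mid S selfDataD4 hK) hp hc).exists_lifts_D4 hK h
  exact splits_of_sys e1 e2

theorem cover_perfect_B2 (S : Setup chevB2 T) {u : Kˣ} (hu : u ≠ 1) :
    commutator (chevB2.SteinbergCover K) = ⊤ :=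
  cover_perfect_fund (tab := decTabB2) S fun i =>
    fund_cases (coverSys K S) (fun _ => ⟨u, hu⟩) (liftFundB2 i i.2) fun h => absurd (by simp) h

theorem coverSplits_B2_three (S : Setup chevB2 T) (h3 : ThreeElem K) (h30 : (3 : K) = 0)
    (p : E →* chevB2.SteinbergCover K) (hp : Function.Surjective p) (hc : p.ker ≤ Subgroup.center E) :
    ∃ s : chevB2.SteinbergCover K →* E, p.comp s = MonoidHom.id _ := by
  obtain ⟨Y, e1, e2⟩ := (coverExt S (cover_perfect_B2 S (neg_one_ne_one_of_three h30)) hp hc).exists_lifts_B2_three h3 h30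
  exact splits_of_sys e1 e2

theorem coverSplits_B2_four (S : Setup chevB2 T) (h20 : (2 : K) = 0) (hK : ∃ s : Finset K, 3 < s.card)
    (p : E →* chevB2.SteinbergCover K) (hp : Function.Surjective p) (hc : p.ker ≤ Subgroup.center E) :
    ∃ s : chevB2.SteinbergCover K →* E, p.comp s = MonoidHom.id _ := by
  obtain ⟨Y, e1, e2⟩ := (coverExt S (cover_perfect_big S hK) hp hc).exists_lifts_B2_four h20 hK
  exact splits_of_sys e1 e2

end CfsgLib.Steinberg
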