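import Cfsg.Agent.Lib.Steinberg.Lift.Swap
import Cfsg.Agent.Lib.Steinberg.Lift.PFree

/-!
Data for types B2 and D4 over fields with three and four elements.
-/

set_option autoImplicit false
set_option linter.unusedSectionVars false

namespace CfsgLib.Steinberg

open Cfsg.Lie

/-- orthogonal pairs of roots swapped by two commuting fundamental reflections -/
def orthBasesD4 : List (ℕ × ℕ) := [(1, 8), (1, 7), (1, 4)]

/-- the orthogonal pairs with a fundamental first root -/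
def orthWordsD4 : List (ℕ × ℕ × ℕ × List ℕ) := [
    (18, 0, 2, [2, 3, 1, 0]),
    (18, 10, 0, [2, 3, 1, 0]),
    (18, 11, 1, [2, 3, 1, 0]),
    (18, 12, 1, [2, 1, 3, 1, 0]),
    (18, 13, 0, [2, 3, 1, 0, 2]),
    (18, 23, 2, [0, 1, 0, 2, 3, 1, 0]),
    (14, 2, 0, [0, 2, 3, 1]),
    (14, 3, 1, [0, 2, 3, 1]),
    (14, 6, 2, [0, 2, 3, 1]),
    (14, 17, 2, [0, 1, 2, 3, 1]),
    (14, 20, 1, [2, 1, 0, 3, 1]),
    (14, 21, 0, [3, 1, 0, 2, 1]),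
    (13, 0, 1, [0, 3, 1, 2]),
    (13, 5, 0, [0, 3, 1, 2]),
    (13, 11, 2, [0, 3, 1, 2]),
    (13, 12, 2, [0, 1, 3, 1, 2]),
    (13, 18, 0, [0, 3, 1, 0, 2]),
    (13, 23, 1, [1, 2, 1, 0, 3, 1, 2]),
    (12, 0, 0, [0, 2, 1, 3]),
    (12, 5, 1, [0, 2, 1, 3]),
    (12, 10, 2, [0, 2, 1, 3]),
    (12, 13, 2, [0, 1, 2, 1, 3]),
    (12, 18, 1, [0, 2, 1, 0, 3]),
    (12, 23, 0, [1, 3, 1, 0, 2, 1, 3])]

/-- orthogonal long roots of B2 swapped by a fundamental reflection -/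
def orthBasesB2 : List (ℕ × ℕ) := [(4, 7), (7, 4)]

/-- all orthogonal pairs of long roots of B2 -/
def orthWordsB2 : List (ℕ × ℕ × ℕ × List ℕ) := [
    (0, 3, 0, [1, 0, 1]), (0, 4, 0, [1, 0]), (3, 0, 1, [1, 0, 1]), (3, 7, 0, [1]), (4, 0, 1, [1, 0]), (4, 7, 0, []), (7, 3, 1, [1]), (7, 4, 1, [])]

/-- each long root of B2 as a sum of two short roots, with the coefficient -/
def longPairsB2 : List (ℕ × ℕ × ℕ × ℤ) := [(0, 2, 1, 2), (3, 5, 1, 2), (4, 6, 2, 2), (7, 5, 6, 2)]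

/-- the short roots of B2 -/
def shortB2 : List ℕ := [1, 2, 5, 6]

/-- the ways a pair of roots of B2 is handled over three elements -/
def B2Three (r s : ℕ) : Prop :=
  kVal chevB2 r s = 1 ∨ kVal chevB2 s r = 1 ∨ Reached chevB2 orthBasesB2 orthWordsB2 r s ∨
    ∃ e ∈ longPairsB2, (r = e.2.1 ∧ s = e.2.2.1) ∨ (r = e.2.2.1 ∧ s = e.2.1)

instance instDecidableB2Three (r s : ℕ) : Decidable (B2Three r s) :=
  inferInstanceAs (Decidable (_ ∨ _))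

theorem b2Three : ∀ r, r < chevB2.nroots → ∀ s, s < chevB2.nroots → s ≠ r → s ≠ chevB2.neg r → B2Three r s := by
  decide +kernel

/-- one defining pair -/
def LongPairOk (e : ℕ × ℕ × ℕ × ℤ) : Prop :=
  e.1 < chevB2.nroots ∧ e.2.1 ∈ shortB2 ∧ e.2.2.1 ∈ shortB2 ∧ e.2.2.1 ≠ e.2.1 ∧ e.2.2.1 ≠ chevB2.neg e.2.1 ∧
    e.1 ≠ chevB2.neg e.2.1 ∧ chevB2.commTerms e.2.1 e.1 = [] ∧ e.1 ≠ chevB2.neg e.2.2.1 ∧
    chevB2.commTerms e.2.2.1 e.1 = [] ∧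
    (kVal chevB2 e.2.1 e.1 = 1 ∨ kVal chevB2 e.1 e.2.1 = 1) ∧
    (kVal chevB2 e.2.2.1 e.1 = 1 ∨ kVal chevB2 e.1 e.2.2.1 = 1) ∧ e.1 ∉ shortB2 ∧
    (∃ C ∈ [(2 : ℤ), -2], chevB2.commTerms e.2.1 e.2.2.1 = [(e.1, C, 1, 1)]) ∧
    ∃ C' ∈ [(2 : ℤ), -2], chevB2.commTerms e.2.2.1 e.2.1 = [(e.1, C', 1, 1)]

set_option synthInstance.maxSize 1024 in
instance instDecidableLongPairOk (e : ℕ × ℕ × ℕ × ℤ) : Decidable (LongPairOk e) :=
  inferInstanceAs (Decidable (_ ∧ _))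

theorem longPairsOk : ∀ e ∈ longPairsB2, LongPairOk e := by decide +kernel

theorem b2_root_kind : ∀ r, r < chevB2.nroots → r ∈ shortB2 ∨ r ∈ longPairsB2.map Prod.fst := by decide +kernel

theorem longPairs_unique : ∀ e ∈ longPairsB2, ∀ e' ∈ longPairsB2, e.1 = e'.1 → e = e' := by decide +kernel

theorem short_moves : ∀ r ∈ shortB2, r < chevB2.nroots ∧ (chevB2.cartan 1 r = 1 ∨ chevB2.cartan 1 r = -1) := by
  decide +kernel

theorem b2_orth_base : chevB2.reflectRoot 0 4 = 7 ∧ chevB2.reflectRoot 0 7 = 4 ∧ chevB2.cartan 0 4 = -2 ∧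
    chevB2.cartan 0 7 = 2 ∧ chevB2.commTerms 4 7 = [] ∧ chevB2.neg 4 = 3 ∧ chevB2.commTerms 7 4 = [] ∧
    chevB2.neg 7 = 0 := by decide +kernel

/-- the ways a pair of roots of D4 is handled -/
def D4Pair (i s : ℕ) : Prop :=
  (kVal chevD4 (chevD4.simple i) s = 1 ∨
    (kVal chevD4 (chevD4.simple i) s = 2 ∧ Reached chevD4 orthBasesD4 orthWordsD4 (chevD4.simple i) s))

instance instDecidableD4Pair (i s : ℕ) : Decidable (D4Pair i s) := inferInstanceAs (Decidable (_ ∨ _))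

theorem d4Pair : ∀ i, i < chevD4.rank → ∀ s, s < chevD4.nroots → s ≠ chevD4.simple i →
    s ≠ chevD4.neg (chevD4.simple i) → D4Pair i s := by decide +kernel

/-- one base pair of D4 with its two reflections -/
def BaseOkD4 (i j r s : ℕ) : Prop :=
  i < chevD4.rank ∧ j < chevD4.rank ∧ r < chevD4.nroots ∧ s < chevD4.nroots ∧ s ≠ chevD4.neg r ∧
    chevD4.commTerms r s = [] ∧
    (∀ a ∈ [chevD4.simple i, chevD4.neg (chevD4.simple i)], ∀ b ∈ [chevD4.simple j, chevD4.neg (chevD4.simple j)],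
      b ≠ a ∧ b ≠ chevD4.neg a ∧ chevD4.commTerms a b = []) ∧
    chevD4.reflectRoot i (chevD4.reflectRoot j r) = s ∧ chevD4.reflectRoot i (chevD4.reflectRoot j s) = r ∧
    2 ∣ chevD4.cartan i r + chevD4.cartan j r

instance instDecidableBaseOkD4 (i j r s : ℕ) : Decidable (BaseOkD4 i j r s) :=
  inferInstanceAs (Decidable (_ ∧ _))

theorem d4_bases : ∀ p ∈ orthBasesD4, ∃ ij ∈ [(0, 2), (0, 3), (2, 3)], BaseOkD4 ij.1 ij.2 p.1 p.2 := by
  decide +kernel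

theorem b2_short_dec : chevB2.commTerms 7 1 = [(5, 1, 1, 1), (3, 1, 1, 2)] ∧ chevB2.commTerms 5 1 = [(3, 2, 1, 1)] ∧
    chevB2.simple 0 = 5 ∧ chevB2.nroots = 8 ∧ chevB2.neg 7 = 0 ∧ chevB2.neg 5 = 2 ∧
    chevB2.commTerms 5 7 = [] ∧ chevB2.commTerms 5 3 = [] ∧ kVal chevB2 5 7 = 1 ∧ kVal chevB2 5 3 = 1 ∧
    kVal chevB2 5 1 = 2 := by decide +kernel

theorem b2_scalings : ∀ i, i < chevB2.rank → ∀ s, s < chevB2.nroots → s ≠ chevB2.simple i →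
    s ≠ chevB2.neg (chevB2.simple i) → 0 < kVal chevB2 (chevB2.simple i) s ∧ kVal chevB2 (chevB2.simple i) s ≤ 2 := by
  decide +kernel

end CfsgLib.Steinberg
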