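import Cfsg.Agent.Lib.Steinberg.Lift.Mid

/-!
Commutation of lifts over fields with three elements: swaps by Weyl group elements, and transport along reflections.
-/

set_option autoImplicit false
set_option linter.unusedSectionVars false

namespace CfsgLib.Steinberg

open Cfsg.Lie CfsgLib.Chev
open scoped commutatorElement IsMulCommutative

/-- three elements only -/
def ThreeElem (K : Type*) [Field K] : Prop := ∀ t : K, t = 0 ∨ t = 1 ∨ t = -1

/-- reflect both roots along a word -/
def reflWord (D : ChevalleyDatum) (L : List ℕ) (p : ℕ × ℕ) : ℕ × ℕ :=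
  L.foldl (fun p i => (D.reflectRoot i p.1, D.reflectRoot i p.2)) p

/-- the pair `(r, s)` is reached from a base pair -/
def Reached (D : ChevalleyDatum) (bases : List (ℕ × ℕ)) (words : List (ℕ × ℕ × ℕ × List ℕ)) (r s : ℕ) : Prop :=
  ∃ e ∈ words, e.1 = r ∧ e.2.1 = s ∧ e.2.2.1 < bases.length ∧ (∀ i ∈ e.2.2.2, i < D.rank) ∧
    reflWord D e.2.2.2 (bases.getD e.2.2.1 (0, 0)) = (r, s)

instance instDecidableReached (D : ChevalleyDatum) (bases : List (ℕ × ℕ)) (words : List (ℕ × ℕ × ℕ × List ℕ))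
    (r s : ℕ) : Decidable (Reached D bases words r s) :=
  inferInstanceAs (Decidable (∃ e ∈ words, _))

variable {D : ChevalleyDatum} {T : Tabs} {K : Type*} [Field K] {Δ : Type*} [Group Δ] {E : Type*} [Group E]

namespace Sys

variable {y : ℕ → K → Δ} {φ : Δ →* GL D.Idx K} (S : Sys D T y φ)
include S

theorem y_inj {r : ℕ} (hr : r < D.nroots) {t u : K} (h : y r t = y r u) : t = u := by
  have h1 := congrArg φ h
  rw [S.proj r t hr, S.proj r u hr] at h1
  have h2 : elX D K r (t - u) = 1 := by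
    rw [sub_eq_add_neg, ← elX_add S.checked K hr, h1, elX_add S.checked K hr, add_neg_cancel,
      (elX_eq_one_iff S.checked hr _).2 rfl]
  exact sub_eq_zero.1 ((elX_eq_one_iff S.checked hr _).1 h2)

theorem diag_scalar_unique {g : Δ} {σ : ℕ → ℕ} {c d : ℕ → Kˣ} (hg : Conj D y g σ c) (hd : Diag D y g d)
    {r : ℕ} (hr : r < D.nroots) (hσ : σ r = r) : c r = d r := by
  have h := (hg r 1 hr).symm.trans (hd r 1 hr)
  simp only [hσ, mul_one] at h
  exact Units.ext (S.y_inj hr h)

theorem nE_neg_one {r : ℕ} (hr : r < D.nroots) : nE D y r (-1) = (nE D y r 1)⁻¹ := by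
  simp only [nE, mul_inv_rev, S.y_inv hr, S.y_inv (neg_lt S.checked hr), inv_neg, inv_one, neg_neg, mul_assoc]

theorem diag_nE_sq (i : Fin D.rank) : ∃ d, Diag D y (nE D y (D.simple i) 1 * nE D y (D.simple i) 1) d ∧
    ∀ r, r < D.nroots → d r = (-1 : Kˣ) ^ pairCoef D i r := by
  have hp := simple_lt S.checked i.2
  have h := (Diag.inv (D := D) (y := y) (S.conj_hE hp (-1 : Kˣ)))
  rw [Units.val_neg, Units.val_one, hE, S.nE_neg_one hp, ← mul_inv_rev, inv_inv] at h
  refine ⟨_, h, fun r hr => ?_⟩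
  show (chi _ _)⁻¹ = _
  rw [chi_corChar_simple S.checked i hr, ← inv_zpow]
  norm_num

/-- a conjugation whose square scales `r` trivially swaps `r` with a root by inverse scalars -/
theorem swap_of_sq {g : Δ} {σ : ℕ → ℕ} {c d : ℕ → Kˣ} (hg : Conj D y g σ c)
    (hσ : ∀ r, r < D.nroots → σ r < D.nroots) (hd : Diag D y (g * g) d) {r : ℕ} (hr : r < D.nroots)
    (h2 : σ (σ r) = r) (h1 : d r = 1) : c (σ r) * c r = 1 :=
  (S.diag_scalar_unique (hg.comp hσ hg) hd hr h2).trans h1

theorem swap_simple (i : Fin D.rank) {r : ℕ} (hr : r < D.nroots) (hA : Even (D.cartan i r)) :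
    ∃ (g : Δ) (c d : Kˣ), (∀ t, g * y r t * g⁻¹ = y (D.reflectRoot i r) ((c : K) * t)) ∧
      (∀ t, g * y (D.reflectRoot i r) t * g⁻¹ = y r ((d : K) * t)) ∧ c * d = 1 := by
  obtain ⟨c, hc, -⟩ := S.conj_nE i 1
  rw [Units.val_one] at hc
  obtain ⟨e, he, hes⟩ := S.diag_nE_sq i
  have hs := sig_lt S.checked i hr
  have h2 := sig_sig S.checked i hr
  have key := S.swap_of_sq hc (fun r hr => sig_lt S.checked i hr) he hr h2
    (by rw [hes r hr, hA.neg_one_zpow])
  refine ⟨nE D y (D.simple i) 1, c r, c (sig D T i r), fun t => ?_, fun t => ?_, by rw [mul_comm]; exact key⟩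
  · rw [reflectRoot_eq S.checked i hr]; exact hc r t hr
  · rw [reflectRoot_eq S.checked i hr, hc _ t hs, h2]

/-- two commuting fundamental reflections -/
theorem swap_two (i j : Fin D.rank)
    (hcomm : ∀ a ∈ [D.simple i, D.neg (D.simple i)], ∀ b ∈ [D.simple j, D.neg (D.simple j)],
      b ≠ a ∧ b ≠ D.neg a ∧ D.commTerms a b = [])
    {r s : ℕ} (hr : r < D.nroots) (hs : D.reflectRoot i (D.reflectRoot j r) = s)
    (hback : D.reflectRoot i (D.reflectRoot j s) = r) (hA : Even (D.cartan i r + D.cartan j r)) :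
    ∃ (g : Δ) (c d : Kˣ), (∀ t, g * y r t * g⁻¹ = y s ((c : K) * t)) ∧
      (∀ t, g * y s t * g⁻¹ = y r ((d : K) * t)) ∧ c * d = 1 := by
  obtain ⟨a, ha, -⟩ := S.conj_nE i 1
  obtain ⟨b, hb, -⟩ := S.conj_nE j 1
  rw [Units.val_one] at ha hb
  set m := nE D y (D.simple i) 1
  set n := nE D y (D.simple j) 1
  have hlt : ∀ (k : Fin D.rank) r, r < D.nroots → sig D T k r < D.nroots := fun k r hr => sig_lt S.checked k hr
  have hg := ha.comp (hlt j) hb
  obtain ⟨d, hd, hdv⟩ := S.diag_nE_sq i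
  obtain ⟨d', hd', hdv'⟩ := S.diag_nE_sq j
  have hc : ∀ p q : ℕ, p < D.nroots → q < D.nroots → q ≠ p → q ≠ D.neg p → D.commTerms p q = [] →
      ∀ t u, Commute (y p t) (y q u) := fun p q hp hq h1 h2 h3 t u => by
    have := S.rel p q t u hp hq h1 h2
    rw [ChevalleyDatum.commWord, h3] at this
    simpa [wordE, Commute, SemiconjBy] using this.symm
  have hp := simple_lt S.checked i.2
  have hq := simple_lt S.checked j.2
  have cm1 : ∀ a ∈ [D.simple i, D.neg (D.simple i)], ∀ t, Commute (y a t) n := fun a ha t => by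
    have hlt' : a < D.nroots := by
      simp only [List.mem_cons, List.not_mem_nil, or_false] at ha
      rcases ha with rfl | rfl
      · exact hp
      · exact neg_lt S.checked hp
    have h1 := hcomm a ha _ (List.mem_cons_self)
    have h2 := hcomm a ha (D.neg (D.simple j)) (by simp)
    exact ((hc a _ hlt' hq h1.1 h1.2.1 h1.2.2 t _).mul_right
      (hc a _ hlt' (neg_lt S.checked hq) h2.1 h2.2.1 h2.2.2 t _)).mul_right (hc a _ hlt' hq h1.1 h1.2.1 h1.2.2 t _)
  have hmn : Commute m n :=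
    ((cm1 _ (by simp) _).mul_left (cm1 _ (by simp) _)).mul_left (cm1 _ (by simp) _)
  have hsq : Diag D y (m * n * (m * n)) fun r => d r * d' r := by
    rw [show m * n * (m * n) = m * m * (n * n) by
      rw [mul_assoc m n, ← mul_assoc n m, ← hmn.eq]; group]
    exact hd.mul hd'
  have hst : ∀ r, r < D.nroots → sig D T i (sig D T j r) = D.reflectRoot i (D.reflectRoot j r) := fun r hr => by
    rw [reflectRoot_eq S.checked j hr, reflectRoot_eq S.checked i (hlt j r hr)]
  have hsn : s < D.nroots := by rw [← hs, ← hst r hr]; exact hlt i _ (hlt j r hr)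
  have key := S.swap_of_sq hg (fun r hr => hlt i _ (hlt j r hr)) hsq hr
    (by rw [hst r hr, hs, hst s hsn, hback]) (by rw [hdv r hr, hdv' r hr, ← zpow_add, hA.neg_one_zpow])
  refine ⟨m * n, a (sig D T j r) * b r, a (sig D T j s) * b s, fun t => ?_, fun t => ?_, ?_⟩
  · rw [hg r t hr]; simp only [hst r hr, hs]
  · rw [hg s t hsn]; simp only [hst s hsn, hback]
  · have e : sig D T i (sig D T j r) = s := by rw [hst r hr, hs]
    simp only [e] at key
    rw [mul_comm]; exact key

end Sys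

namespace Ext

variable {y : ℕ → K → Δ} {φ : Δ →* GL D.Idx K} {π : E →* Δ} (X : Ext D T y φ π)
include X

/-- commuting root subgroups with a scaling have commuting lifts -/
theorem cc_of_commute_scaling {r s : ℕ} (hr : r < D.nroots) (hs : s < D.nroots)
    (hc : ∀ t u, Commute (y r t) (y s u)) {g : Δ} {c : ℕ → Kˣ} (hg : Diag D y g c) (h1 : c r ≠ 1) (h2 : c s = 1) :
    CC y π r s := by
  intro a b t u ha hb
  have hd : (c r : K) - 1 ≠ 0 := sub_ne_zero.2 fun e => h1 (Units.ext e)
  set A := X.sec (y r (t / ((c r : K) - 1)))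
  set G := X.sec g
  have e : π a = π ⁅G, A⁆ := by
    rw [ha, map_commutatorElement, X.π_sec, X.π_sec, commutatorElement_def, hg r _ hr, X.sys.y_inv hr,
      ← X.sys.add _ _ _ hr]
    congr 1; field_simp; ring
  obtain ⟨z, hz, rfl⟩ := X.exists_central e
  refine (Commute.mul_left ?_ (Subgroup.mem_center_iff.1 hz b).symm)
  refine (commute_commutator ?_ ?_).symm
  · refine X.cmt_mem_center ?_
    rw [hb, X.π_sec]
    have := hg s u hs
    rw [h2, Units.val_one, one_mul, mul_inv_eq_iff_eq_mul] at this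
    exact this.symm
  · exact X.cmt_mem_center (by rw [hb, X.π_sec]; exact (hc _ u).symm)

variable (h3 : ThreeElem K)
include h3

theorem lift_cases {r : ℕ} (hr : r < D.nroots) {a : E} {t : K} (ha : π a = y r t) :
    ∃ z ∈ Subgroup.center E, a = z ∨ a = X.sec (y r 1) * z ∨ a = (X.sec (y r 1))⁻¹ * z := by
  rcases h3 t with rfl | rfl | rfl
  · exact ⟨a, X.central (by rw [MonoidHom.mem_ker, ha, X.sys.y_zero hr]), Or.inl rfl⟩
  · obtain ⟨z, hz, e⟩ := X.exists_central (ha.trans (X.π_sec _).symm)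
    exact ⟨z, hz, Or.inr (Or.inl e)⟩
  · obtain ⟨z, hz, e⟩ := X.exists_central (b := (X.sec (y r 1))⁻¹)
      (by rw [ha, map_inv, X.π_sec, X.sys.y_inv hr])
    exact ⟨z, hz, Or.inr (Or.inr e)⟩

theorem cc_of_gens {r s : ℕ} (hr : r < D.nroots) (hs : s < D.nroots)
    (h : Commute (X.sec (y r 1)) (X.sec (y s 1))) : CC y π r s := by
  intro a b t u ha hb
  obtain ⟨z, hz, ea⟩ := X.lift_cases h3 hr ha
  obtain ⟨w, hw, eb⟩ := X.lift_cases h3 hs hb
  have hz' : ∀ g, Commute z g := fun g => (Subgroup.mem_center_iff.1 hz g).symm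
  have hw' : ∀ g, Commute g w := fun g => Subgroup.mem_center_iff.1 hw g
  rcases ea with rfl | rfl | rfl
  · exact hz' b
  all_goals rcases eb with rfl | rfl | rfl
  · exact hw' _
  · exact ((h.mul_right (hw' _)).mul_left (hz' _))
  · exact ((h.inv_right.mul_right (hw' _)).mul_left (hz' _))
  · exact hw' _
  · exact ((h.inv_left.mul_right (hw' _)).mul_left (hz' _))
  · exact ((h.inv_inv.mul_right (hw' _)).mul_left (hz' _))

theorem cc_self_three {r : ℕ} (hr : r < D.nroots) : CC y π r r := X.cc_of_gens h3 hr hr (Commute.refl _)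

theorem cc_of_swap {r s : ℕ} (hr : r < D.nroots) (hs : s < D.nroots) (hc : ∀ t u, Commute (y r t) (y s u))
    (h : ∃ (g : Δ) (c d : Kˣ), (∀ t, g * y r t * g⁻¹ = y s ((c : K) * t)) ∧
      (∀ t, g * y s t * g⁻¹ = y r ((d : K) * t)) ∧ c * d = 1) (h30 : (3 : K) = 0) : CC y π r s := by
  refine X.cc_of_gens h3 hr hs ?_
  obtain ⟨g, c, d, hcr, hds, hcd⟩ := h
  set A := X.sec (y r 1)
  set B := X.sec (y s 1)
  have hA : π A = y r 1 := X.π_sec _
  have hB : π B = y s 1 := X.π_sec _
  set w := ⁅A, B⁆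
  have hw : ∀ g, g * w = w * g := Subgroup.mem_center_iff.1 (X.cmt_mem_center (by rw [hA, hB]; exact hc 1 1))
  have eA : A * B * A⁻¹ = w * B := by simp only [w, commutatorElement_def]; group
  have w3 : w * w * w = 1 := by
    have hA3 : A * A * A ∈ π.ker := by
      rw [MonoidHom.mem_ker, map_mul, map_mul, hA, ← X.sys.add _ _ _ hr, ← X.sys.add _ _ _ hr,
        show (1 : K) + 1 + 1 = 3 by norm_num, h30, X.sys.y_zero hr]
    have hz := Subgroup.mem_center_iff.1 (X.central hA3) B
    have h1 : A * A * A * B * (A * A * A)⁻¹ = w * w * w * B := by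
      have step : ∀ g, A * (w * g) * A⁻¹ = w * (A * g * A⁻¹) := fun g => by
        rw [← mul_assoc A w g, hw A]; simp only [mul_assoc]
      calc A * A * A * B * (A * A * A)⁻¹ = A * (A * (A * B * A⁻¹) * A⁻¹) * A⁻¹ := by group
        _ = w * (w * (w * B)) := by rw [eA, step, eA, step, step, eA]
        _ = _ := by simp only [mul_assoc]
    rw [← hz, mul_inv_cancel_right] at h1
    exact mul_eq_right.1 h1.symm
  obtain ⟨e, he⟩ := X.surj g
  have hconj : ⁅e * A * e⁻¹, e * B * e⁻¹⁆ = w := by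
    rw [show ⁅e * A * e⁻¹, e * B * e⁻¹⁆ = e * w * e⁻¹ by simp only [w, commutatorElement_def]; group, hw e,
      mul_inv_cancel_right]
  have pA : π (e * A * e⁻¹) = y s (c : K) := by rw [map_mul, map_mul, map_inv, he, hA, hcr, mul_one]
  have pB : π (e * B * e⁻¹) = y r (d : K) := by rw [map_mul, map_mul, map_inv, he, hB, hds, mul_one]
  have w2 : w * w = 1 := by
    rcases h3 (c : K) with e0 | e1 | e1
    · exact absurd e0 c.ne_zero
    · have hc1 : c = 1 := Units.ext e1
      rw [hc1, one_mul] at hcd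
      have := X.cmt_congr (a := e * A * e⁻¹) (a' := B) (b := e * B * e⁻¹) (b' := A) (by rw [pA, hB, e1])
        (by rw [pB, hA, hcd, Units.val_one])
      rw [hconj] at this
      conv_lhs => arg 1; rw [this]
      simp only [w, commutatorElement_def]; group
    · have hc1 : c = -1 := Units.ext (by rw [e1, Units.val_neg, Units.val_one])
      rw [hc1, neg_one_mul, neg_eq_iff_eq_neg] at hcd
      have := X.cmt_congr (a := e * A * e⁻¹) (a' := B⁻¹) (b := e * B * e⁻¹) (b' := A⁻¹)
        (by rw [pA, map_inv, hB, X.sys.y_inv hs, e1])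
        (by rw [pB, map_inv, hA, X.sys.y_inv hr, hcd, Units.val_neg, Units.val_one])
      rw [hconj] at this
      have e2 : ⁅B⁻¹, A⁻¹⁆ * w = 1 := by
        calc ⁅B⁻¹, A⁻¹⁆ * w = B⁻¹ * A⁻¹ * (w * (B * A)) := by
              rw [← hw (B * A)]; simp only [commutatorElement_def, inv_inv]; group
          _ = 1 := by simp only [w, commutatorElement_def]; group
      rwa [← this] at e2
  refine commutatorElement_eq_one_iff_mul_comm.1 ?_
  show w = 1
  rwa [w2, one_mul] at w3

omit h3

/-- commutation carried along a word of reflections -/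
theorem cc_reflWord : ∀ (L : List ℕ) (p : ℕ × ℕ), (∀ i ∈ L, i < D.rank) → p.1 < D.nroots → p.2 < D.nroots →
    CC y π p.1 p.2 → CC y π (reflWord D L p).1 (reflWord D L p).2
  | [], p, _, _, _, h => h
  | i :: L, p, hL, h1, h2, h => by
    have hi := hL i List.mem_cons_self
    have e1 := reflectRoot_eq X.sys.checked ⟨i, hi⟩ h1
    have e2 := reflectRoot_eq X.sys.checked ⟨i, hi⟩ h2
    refine cc_reflWord L (D.reflectRoot i p.1, D.reflectRoot i p.2) (fun j hj => hL j (List.mem_cons_of_mem i hj))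
      ?_ ?_ ?_
    · rw [e1]; exact sig_lt X.sys.checked _ h1
    · rw [e2]; exact sig_lt X.sys.checked _ h2
    · rw [e1, e2]; exact X.cc_sig ⟨i, hi⟩ h1 h2 h

theorem cc_of_reached {bases : List (ℕ × ℕ)} {words : List (ℕ × ℕ × ℕ × List ℕ)}
    (hb : ∀ p ∈ bases, p.1 < D.nroots ∧ p.2 < D.nroots ∧ CC y π p.1 p.2) {r s : ℕ}
    (h : Reached D bases words r s) : CC y π r s := by
  obtain ⟨e, -, -, -, hlen, hL, he⟩ := h
  have hmem : bases.getD e.2.2.1 (0, 0) ∈ bases := by
    rw [List.getD_eq_getElem _ _ hlen]; exact List.getElem_mem hlen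
  obtain ⟨h1, h2, h⟩ := hb _ hmem
  have := X.cc_reflWord e.2.2.2 _ hL h1 h2 h
  rwa [he] at this

end Ext

end CfsgLib.Steinberg
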